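import Cfsg.Prelude.Def_HallClasses
import Mathlib.GroupTheory.Sylow
import Mathlib.GroupTheory.Index
import Mathlib.Data.Nat.Factorization.Basic
import Mathlib.Data.Nat.Factors
import Mathlib.Tactic

/-!
# Generalities on Hall π-subgroups

Cardinality of Hall subgroups, and groups in which a Hall π-subgroup dominates every π-subgroup.
-/

set_option autoImplicit false

namespace Cfsg.Lib.HallSym

universe u

variable {G : Type u} [Group G] [Finite G] {π : Set ℕ}

/-- Some Hall π-subgroup contains a conjugate of every π-subgroup. -/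
def Dominated (π : Set ℕ) (G : Type u) [Group G] : Prop :=
  ∃ H : Subgroup G, IsPiHall π H ∧
    ∀ K : Subgroup G, IsPiSubgroup π K → ∃ g : G, K ≤ H.map (MulAut.conj g).toMonoidHom

theorem card_conj (g : G) (H : Subgroup G) :
    Nat.card (H.map (MulAut.conj g).toMonoidHom) = Nat.card H :=
  (Nat.card_congr (H.equivMapOfInjective _ (MulAut.conj g).injective).toEquiv).symm

theorem index_conj (g : G) (H : Subgroup G) :
    (H.map (MulAut.conj g).toMonoidHom).index = H.index := by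
  have h1 := (H.map (MulAut.conj g).toMonoidHom).card_mul_index
  rw [card_conj, ← H.card_mul_index] at h1
  exact Nat.eq_of_mul_eq_mul_left Nat.card_pos h1

theorem isPiHall_conj {H : Subgroup G} (h : IsPiHall π H) (g : G) :
    IsPiHall π (H.map (MulAut.conj g).toMonoidHom) :=
  ⟨fun p hp hd => h.1 p hp (card_conj g H ▸ hd), fun p hp hπ => index_conj g H ▸ h.2 p hp hπ⟩

theorem card_dvd_card_hall {H K : Subgroup G} (hH : IsPiHall π H) (hK : IsPiSubgroup π K) :
    Nat.card K ∣ Nat.card H := by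
  have hd : Nat.card K ∣ Nat.card H * H.index := by
    rw [H.card_mul_index]; exact K.card_subgroup_dvd_card
  exact (Nat.coprime_of_dvd fun p hp h1 h2 => hH.2 p hp (hK p hp h1) h2).dvd_of_dvd_mul_right hd

/-- A π-subgroup containing a Hall π-subgroup is equal to it. -/
theorem eq_of_hall_le {H K : Subgroup G} (hH : IsPiHall π H) (hK : IsPiSubgroup π K) (h : H ≤ K) :
    H = K :=
  Subgroup.eq_of_le_of_card_ge h (Nat.le_of_dvd Nat.card_pos (card_dvd_card_hall hH hK))

theorem isPiHall_maximal {H : Subgroup G} (hH : IsPiHall π H) :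
    Maximal (IsPiSubgroup π) H :=
  ⟨hH.1, fun _ hK h => (eq_of_hall_le hH hK h).ge⟩

theorem Dominated.isCPiGroup (h : Dominated π G) : IsCPiGroup π G := by
  obtain ⟨S, hS, hdom⟩ := h
  refine ⟨⟨S, hS⟩, fun H K hH hK => ?_⟩
  obtain ⟨a, ha⟩ := hdom H hH.1
  obtain ⟨b, hb⟩ := hdom K hK.1
  have eH := eq_of_hall_le hH (isPiHall_conj hS a).1 ha
  have eK := eq_of_hall_le hK (isPiHall_conj hS b).1 hb
  refine ⟨b * a⁻¹, ?_⟩
  rw [eH, eK, Subgroup.map_map]
  congr 1
  ext x
  simp [mul_assoc]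

theorem Dominated.isDPiGroup (h : Dominated π G) : IsDPiGroup π G := by
  obtain ⟨S, hS, hdom⟩ := h
  intro H K hH hK
  obtain ⟨a, ha⟩ := hdom H hH.1
  obtain ⟨b, hb⟩ := hdom K hK.1
  have eH := le_antisymm ha (hH.2 (isPiHall_conj hS a).1 ha)
  have eK := le_antisymm hb (hK.2 (isPiHall_conj hS b).1 hb)
  refine ⟨b * a⁻¹, ?_⟩
  rw [eH, eK, Subgroup.map_map]
  congr 1
  ext x
  simp [mul_assoc]

theorem Dominated.exists_hall_ge (h : Dominated π G) {K : Subgroup G} (hK : IsPiSubgroup π K) :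
    ∃ H : Subgroup G, IsPiHall π H ∧ K ≤ H := by
  obtain ⟨S, hS, hdom⟩ := h
  obtain ⟨g, hg⟩ := hdom K hK
  exact ⟨_, isPiHall_conj hS g, hg⟩

/-- All prime divisors of `|G|` in `π`. -/
theorem dominated_of_all (h : ∀ p : ℕ, p.Prime → p ∣ Nat.card G → p ∈ π) : Dominated π G := by
  refine ⟨⊤, ⟨fun p hp hd => h p hp (by rwa [Subgroup.card_top] at hd), fun p hp _ hd => ?_⟩,
    fun K _ => ⟨1, fun x _ => ⟨x, trivial, by simp⟩⟩⟩
  rw [Subgroup.index_top] at hd
  exact hp.not_dvd_one hd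

/-- At most one prime divisor of `|G|` in `π`: Sylow's theorem. -/
theorem dominated_of_subsingleton
    (h : ∀ p q : ℕ, p.Prime → q.Prime → p ∈ π → q ∈ π → p ∣ Nat.card G → q ∣ Nat.card G → p = q) :
    Dominated π G := by
  by_cases hex : ∃ p : ℕ, p.Prime ∧ p ∈ π ∧ p ∣ Nat.card G
  · obtain ⟨p, hp, hpπ, hpd⟩ := hex
    have := Fact.mk hp
    obtain ⟨P⟩ : Nonempty (Sylow p G) := Sylow.nonempty
    refine ⟨P, ⟨fun q hq hd => ?_, fun q hq hqπ hd => ?_⟩, fun K hK => ?_⟩
    · obtain ⟨n, hn⟩ := IsPGroup.iff_card.1 P.isPGroup'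
      rw [hn] at hd
      rwa [(Nat.prime_dvd_prime_iff_eq hq hp).1 (hq.dvd_of_dvd_pow hd)]
    · obtain rfl := h q p hq hp hqπ hpπ (hd.trans (Subgroup.index_dvd_card _)) hpd
      exact P.not_dvd_index hd
    · have hKp : IsPGroup p K := IsPGroup.of_card (n := (Nat.card K).primeFactorsList.length)
        (Nat.eq_prime_pow_of_unique_prime_dvd Nat.card_pos.ne' fun {d} hd hdK =>
          h d p hd hp (hK d hd hdK) hpπ (hdK.trans K.card_subgroup_dvd_card) hpd)
      obtain ⟨Q, hQ⟩ := hKp.exists_le_sylow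
      obtain ⟨g, hg⟩ := MulAction.exists_smul_eq G P Q
      refine ⟨g, hQ.trans (le_of_eq ?_)⟩
      rw [← hg]
      rfl
  · push_neg at hex
    refine ⟨⊥, ⟨fun p hp hd => ?_, fun p hp hpπ hd => hex p hp hpπ (hd.trans
      (Subgroup.index_dvd_card _))⟩, fun K hK => ⟨1, ?_⟩⟩
    · rw [Subgroup.card_bot] at hd
      exact absurd hd hp.not_dvd_one
    · rw [Subgroup.map_bot, le_bot_iff, Subgroup.eq_bot_iff_card]
      by_contra hne
      obtain ⟨p, hp, hd⟩ := Nat.exists_prime_and_dvd hne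
      exact hex p hp (hK p hp hd) (hd.trans K.card_subgroup_dvd_card)

/-- In a `D_π` group a maximal π-subgroup is a Hall subgroup. -/
theorem isEPiGroup_of_isDPiGroup (h : IsDPiGroup π G) : IsEPiGroup π G := by
  have hbot : IsPiSubgroup π (⊥ : Subgroup G) := fun p hp hd => by
    rw [Subgroup.card_bot] at hd; exact absurd hd hp.not_dvd_one
  obtain ⟨H, -, hH⟩ := Finite.exists_le_maximal hbot
  refine ⟨H, hH.1, fun p hp hpπ hd => ?_⟩
  have := Fact.mk hp
  obtain ⟨P⟩ : Nonempty (Sylow p G) := Sylow.nonempty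
  have hP : IsPiSubgroup π (P : Subgroup G) := fun q hq hd' => by
    obtain ⟨n, hn⟩ := IsPGroup.iff_card.1 P.isPGroup'
    rw [hn] at hd'
    rwa [(Nat.prime_dvd_prime_iff_eq hq hp).1 (hq.dvd_of_dvd_pow hd')]
  obtain ⟨K, hPK, hK⟩ := Finite.exists_le_maximal hP
  obtain ⟨g, rfl⟩ := h H K hH hK
  rw [← index_conj g H] at hd
  exact P.not_dvd_index (hd.trans (Subgroup.index_dvd_of_le hPK))

/-- In a `D_π` group every π-subgroup is contained in a conjugate of any Hall subgroup. -/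
theorem exists_le_conj_of_isDPiGroup (h : IsDPiGroup π G) {H K : Subgroup G} (hH : IsPiHall π H)
    (hK : IsPiSubgroup π K) : ∃ g : G, K ≤ H.map (MulAut.conj g).toMonoidHom := by
  obtain ⟨L, hKL, hL⟩ := Finite.exists_le_maximal hK
  obtain ⟨g, rfl⟩ := h H L (isPiHall_maximal hH) hL
  exact ⟨g, hKL⟩

/-- Intersecting a Hall subgroup with a normal subgroup of index `2`. -/
theorem isPiHall_subgroupOf_two {A H : Subgroup G} [A.Normal] (hA : A.index ∣ 2)
    (hH : IsPiHall π H) : IsPiHall π (H.subgroupOf A) := by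
  have hc : Nat.card (H.subgroupOf A) = Nat.card (H ⊓ A : Subgroup G) := by
    rw [← Subgroup.inf_subgroupOf_right]
    exact Nat.card_congr (Subgroup.subgroupOfEquivOfLe inf_le_right).toEquiv
  refine ⟨fun p hp hd => hH.1 p hp (hd.trans (hc ▸ Subgroup.card_dvd_of_le inf_le_left)),
    fun p hp hpπ hd => hH.2 p hp hpπ (hd.trans ?_)⟩
  have h1 := Subgroup.relIndex_mul_index (inf_le_right : H ⊓ A ≤ A)
  have h2 := Subgroup.relIndex_mul_index (inf_le_left : H ⊓ A ≤ H)
  rw [Subgroup.inf_relIndex_right] at h1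
  rw [Subgroup.inf_relIndex_left] at h2
  have h3 : A.relIndex H ∣ A.index := Subgroup.relIndex_dvd_index_of_normal _ _
  show H.relIndex A ∣ H.index
  rcases (Nat.dvd_prime Nat.prime_two).1 hA with hA1 | hA2
  · rw [hA1, Nat.dvd_one] at h3
    rw [hA1, mul_one] at h1
    rw [h3, one_mul] at h2
    exact ⟨1, by omega⟩
  · rw [hA2] at h3
    rw [hA2, ← h2] at h1
    rcases (Nat.dvd_prime Nat.prime_two).1 h3 with e | e <;> rw [e] at h1
    · exact ⟨2, by omega⟩
    · exact ⟨1, by omega⟩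

end Cfsg.Lib.HallSym
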