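import Mathlib.NumberTheory.Padics.PadicVal.Basic
import Mathlib.Combinatorics.Enumerative.Bell
import Mathlib.Data.Nat.Choose.Central
import Mathlib.Tactic

/-!
# Arithmetic behind the Hall subgroups of symmetric groups

A binomial coefficient `C(a + b, b)`, `2 ≤ b ≤ a`, is prime to all primes up to `a` only for
`C(7, 3)`; and if `p ≤ b` does not divide the number of partitions of `a * b` points into `b`
classes of size `a`, then `a` is a power of `p`.
-/

set_option autoImplicit false

namespace Cfsg.Lib.HallSym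

theorem prime_le_half {m p : ℕ} (hm : ¬ m.Prime) (hm2 : 2 ≤ m) (hp : p.Prime) (h : p ∣ m) :
    2 * p ≤ m := by
  obtain ⟨c, rfl⟩ := h
  rcases Nat.lt_or_ge c 2 with hc | hc
  · interval_cases c
    · omega
    · exact absurd (by rwa [mul_one] : (p * 1).Prime) hm
  · calc 2 * p = p * 2 := by ring
      _ ≤ p * c := Nat.mul_le_mul_left p hc

theorem dvd_of_mul_choose {x y C : ℕ} (hx : ∀ p : ℕ, p.Prime → p ∣ x → ¬ p ∣ C)
    (h : x ∣ C * y) : x ∣ y :=
  (Nat.coprime_of_dvd hx).dvd_of_dvd_mul_left h

/-- `a + 1` divides `b * C(a + b, b)`, so cannot be prime to the latter. -/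
theorem succ_not_coprime {a b : ℕ} (hb : 1 ≤ b) (hba : b ≤ a)
    (h : ∀ p : ℕ, p.Prime → p ∣ a + 1 → ¬ p ∣ (a + b).choose b) : False := by
  obtain ⟨c, rfl⟩ : ∃ c, b = c + 1 := ⟨b - 1, by omega⟩
  have e := Nat.choose_succ_right_eq (a + (c + 1)) c
  rw [show a + (c + 1) - c = a + 1 by omega] at e
  have hd : a + 1 ∣ c + 1 := dvd_of_mul_choose h ⟨_, by rw [e, mul_comm]⟩
  exact absurd (Nat.le_of_dvd (by omega) hd) (by omega)

theorem choose_coprime_small {a b : ℕ} (hb : 2 ≤ b) (hba : b ≤ a)
    (h : ∀ p : ℕ, p.Prime → p ≤ a → ¬ p ∣ (a + b).choose b) : a = 4 ∧ b = 3 := by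
  have ha : (a + 1).Prime := by
    by_contra hn
    refine succ_not_coprime (by omega) hba fun p hp hd => h p hp ?_
    have := prime_le_half hn (by omega) hp hd
    omega
  have hne : b ≠ a := by
    rintro rfl
    refine h 2 Nat.prime_two (by omega) ?_
    have := Nat.two_dvd_centralBinom_of_one_le (n := b) (by omega)
    rwa [Nat.centralBinom_eq_two_mul_choose, two_mul] at this
  have hn : (a + b).Prime := by
    by_contra hn
    obtain ⟨c, rfl⟩ : ∃ c, b = c + 1 := ⟨b - 1, by omega⟩
    have e := Nat.add_one_mul_choose_eq (a + c) c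
    rw [show a + c + 1 = a + (c + 1) by omega] at e
    have hd : a + (c + 1) ∣ c + 1 := dvd_of_mul_choose (fun p hp hd => h p hp (by
      have := prime_le_half hn (by omega) hp hd
      omega)) ⟨_, e.symm⟩
    exact absurd (Nat.le_of_dvd (by omega) hd) (by omega)
  have hb1 : b + 1 ∣ a := by
    have e := Nat.choose_succ_right_eq (a + b) b
    rw [Nat.add_sub_cancel] at e
    refine dvd_of_mul_choose (fun p hp hd => h p hp ?_) ⟨_, by rw [← e, mul_comm]⟩
    have := Nat.le_of_dvd (by omega) hd
    omega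
  obtain ⟨c, rfl⟩ : ∃ c, b = c + 2 := ⟨b - 2, by omega⟩
  have hn1 : a + (c + 1) ∣ (c + 2) * (c + 1) := by
    have e1 := Nat.add_one_mul_choose_eq (a + c + 1) (c + 1)
    have e2 := Nat.add_one_mul_choose_eq (a + c) c
    rw [show a + c + 1 + 1 = a + (c + 2) by omega, show c + 1 + 1 = c + 2 by omega] at e1
    refine dvd_of_mul_choose (fun p hp hd => h p hp ?_)
      ⟨(a + (c + 2)) * (a + c).choose c, ?_⟩
    · have hodd := hn.odd_of_ne_two (by omega)
      have := prime_le_half (m := a + (c + 1)) (fun hp' => by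
        rcases hp'.eq_two_or_odd' with h2 | h2
        · omega
        · rw [Nat.odd_iff] at h2 hodd; omega) (by omega) hp hd
      omega
    · rw [← mul_assoc, ← e1, mul_assoc, ← e2]; ring
  have ha2 : a + 2 ∣ (c + 2) * (c + 1) := by
    have e1 := Nat.choose_succ_right_eq (a + (c + 2)) (c + 1)
    have e2 := Nat.choose_succ_right_eq (a + (c + 2)) c
    rw [show a + (c + 2) - (c + 1) = a + 1 by omega, show c + 1 + 1 = c + 2 by omega] at e1
    rw [show a + (c + 2) - c = a + 2 by omega] at e2
    refine dvd_of_mul_choose (fun p hp hd => h p hp ?_)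
      ⟨(a + 1) * (a + (c + 2)).choose c, ?_⟩
    · have hodd := ha.odd_of_ne_two (by omega)
      have := prime_le_half (m := a + 2) (fun hp' => by
        rcases hp'.eq_two_or_odd' with h2 | h2
        · omega
        · rw [Nat.odd_iff] at h2 hodd; omega) (by omega) hp hd
      omega
    · rw [← mul_assoc, e1, mul_right_comm, e2]; ring
  obtain ⟨k, rfl⟩ := hb1
  have hk : k ≠ 0 := by rintro rfl; omega
  rcases Nat.lt_or_ge k 2 with hk1 | hk2
  · obtain rfl : k = 1 := by omega
    have h12 : c + 5 ∣ 12 := by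
      have e : c + 5 ∣ (c + 2) * (c + 1) := by
        rwa [show (c + 2 + 1) * 1 + 2 = c + 5 by omega] at ha2
      rw [← Int.natCast_dvd_natCast] at e ⊢
      push_cast at e ⊢
      have h' := e.sub (dvd_mul_right ((c : ℤ) + 5) ((c : ℤ) - 2))
      rwa [show ((c : ℤ) + 2) * ((c : ℤ) + 1) - ((c : ℤ) + 5) * ((c : ℤ) - 2) = 12 by ring] at h'
    have hc12 : c + 5 ≤ 12 := Nat.le_of_dvd (by norm_num) h12
    have h2 := h 2 Nat.prime_two (by omega)
    have hc7 : c ≤ 7 := by omega
    interval_cases c <;> first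
      | exact ⟨rfl, rfl⟩
      | exact absurd ha (by decide)
      | exact absurd h12 (by decide)
      | exact absurd (by decide) h2
  · exfalso
    obtain ⟨m, hm⟩ := ha2
    obtain ⟨l, hl⟩ := hn1
    have hm0 : m ≠ 0 := by rintro rfl; simp at hm
    have hl0 : l ≠ 0 := by rintro rfl; simp at hl
    rcases Nat.lt_or_ge m 2 with hm1 | hm2
    · obtain rfl : m = 1 := by omega
      -- then `k * t + 2 = t ^ 2 - 3 t + 2` with `t = c + 3`, so `k = c`
      have hkc : k = c := by
        have : (c + 3) * k = (c + 3) * c := by nlinarith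
        exact Nat.eq_of_mul_eq_mul_left (by omega) this
      subst hkc
      have hle := Nat.le_of_dvd (by positivity) (⟨l, hl⟩ : _ ∣ (k + 2) * (k + 1))
      nlinarith
    · have e : (2 * (m - 1 : ℤ)) = ((c : ℤ) + 3) * ((c : ℤ) - (m : ℤ) * k) := by
        have : (((c + 2) * (c + 1) : ℕ) : ℤ) = (((c + 2 + 1) * k + 2) * m : ℕ) := by rw [hm]
        push_cast at this
        linear_combination -this
      have hpos : (1 : ℤ) ≤ (c : ℤ) - (m : ℤ) * k := by
        have : (0 : ℤ) < ((c : ℤ) + 3) * ((c : ℤ) - (m : ℤ) * k) := by rw [← e]; omega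
        have := pos_of_mul_pos_right this (by omega)
        omega
      nlinarith

theorem pow_of_legendre {p : ℕ} [hp : Fact p.Prime] :
    ∀ a : ℕ, a ≠ 0 → (p - 1) * padicValNat p a.factorial = a - 1 → ∃ k, a = p ^ k := by
  intro a
  induction a using Nat.strong_induction_on with
  | _ a ih =>
    intro ha he
    have hp2 := hp.out.two_le
    by_cases h1 : a = 1
    · exact ⟨0, by simpa using h1⟩
    have hd := Nat.div_add_mod a p
    have hv : padicValNat p a.factorial = padicValNat p (a / p).factorial + a / p := by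
      rw [← padicValNat_factorial_mul, padicValNat_mul_div_factorial]
    have hq : a / p ≠ 0 := by
      intro h0
      rw [hv, h0] at he
      simp at he
      omega
    have hlt := sub_one_mul_padicValNat_factorial_lt_of_ne_zero p hq
    rw [hv, Nat.mul_add] at he
    have hpq : (p - 1) * (a / p) + a / p = p * (a / p) := by
      rw [← Nat.succ_mul]; congr 1; omega
    have hr : a % p = 0 := by omega
    have hq1 : (p - 1) * padicValNat p (a / p).factorial = a / p - 1 := by omega
    obtain ⟨k, hk⟩ := ih (a / p) (Nat.div_lt_self (by omega) (by omega)) hq hq1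
    exact ⟨k + 1, by rw [pow_succ, ← hk]; rw [hr, Nat.add_zero] at hd; rw [mul_comm]; exact hd.symm⟩

theorem uniformBell_dvd {a b c : ℕ} (h : c ≤ b) :
    Nat.uniformBell c a ∣ Nat.uniformBell b a := by
  induction h with
  | refl => exact dvd_rfl
  | step _ ih => exact ih.trans ⟨_, by rw [Nat.uniformBell_succ_left, mul_comm]⟩

theorem pow_of_not_dvd_uniformBell {p a b : ℕ} (hp : p.Prime) (ha : a ≠ 0) (hb : p ≤ b)
    (h : ¬ p ∣ Nat.uniformBell b a) : ∃ k, a = p ^ k := by
  have := Fact.mk hp
  have hnd : ¬ p ∣ Nat.uniformBell p a := fun h' => h (h'.trans (uniformBell_dvd hb))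
  have e := congrArg (padicValNat p) (Nat.uniformBell_mul_eq p ha)
  have hpp : padicValNat p p.factorial = 1 := by
    have h1 := padicValNat_factorial_mul (p := p) 1
    simpa using h1
  rw [padicValNat.mul (mul_ne_zero (fun h0 => hnd (by rw [h0]; exact dvd_zero p))
      (pow_ne_zero _ (Nat.factorial_ne_zero a))) (Nat.factorial_ne_zero p),
    padicValNat.mul (fun h0 => hnd (by rw [h0]; exact dvd_zero p))
      (pow_ne_zero _ (Nat.factorial_ne_zero a)),
    padicValNat.eq_zero_of_not_dvd hnd, padicValNat.pow _ _, hpp,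
    padicValNat_factorial_mul] at e
  refine pow_of_legendre a ha ?_
  rw [Nat.sub_one_mul]
  omega

theorem uniformBell_two (a : ℕ) : Nat.uniformBell 2 a = (a + a - 1).choose (a - 1) := by
  rw [Nat.uniformBell_succ_left, Nat.uniformBell_one_left, one_mul, mul_one]

end Cfsg.Lib.HallSym
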