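import Cfsg.Prelude.Def_HallClasses
import Mathlib.GroupTheory.Perm.DomMulAct
import Mathlib.GroupTheory.SpecificGroups.Alternating
import Mathlib.Data.Nat.Factorization.Basic
import Mathlib.Data.Nat.Choose.Basic
import Mathlib.GroupTheory.PGroup
import Mathlib.Tactic

/-!
# Hall subgroups of symmetric groups: near-Hall subgroups and fibre stabilisers

A near-Hall `π`-subgroup of `Perm α` is a `π`-subgroup `M` such that `|M|` (`2|M|` if `M` consists
of even permutations) has the full `π`-part of `|α|!`: this covers the Hall subgroups of both the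
symmetric and the alternating group.
-/

set_option autoImplicit false

namespace Cfsg.Lib.HallSym

open Equiv Equiv.Perm

variable {α : Type*} [Fintype α] [DecidableEq α]

/-- `2` for subgroups of the alternating group, `1` otherwise. -/
noncomputable def oddFactor (M : Subgroup (Perm α)) : ℕ :=
  letI := Classical.dec (M ≤ alternatingGroup α)
  if M ≤ alternatingGroup α then 2 else 1

/-- `M` is a `π`-group whose order, doubled if `M` is even, has the full `π`-part of `|α|!`. -/
def NearHall (π : Set ℕ) (M : Subgroup (Perm α)) : Prop :=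
  IsPiSubgroup π M ∧ ∀ p : ℕ, p.Prime → p ∈ π →
    (Fintype.card α).factorial.factorization p ≤ (Nat.card M * oddFactor M).factorization p

theorem oddFactor_ne_zero (M : Subgroup (Perm α)) : oddFactor M ≠ 0 := by
  unfold oddFactor
  split_ifs <;> omega

theorem oddFactor_mono {M N : Subgroup (Perm α)} (h : N ≤ M) : oddFactor M ∣ oddFactor N := by
  classical
  unfold oddFactor
  split_ifs with h1 h2 h2
  · exact dvd_rfl
  · exact absurd (h.trans h1) h2
  · exact one_dvd 2
  · exact dvd_rfl

theorem oddFactor_factorization {M : Subgroup (Perm α)} {p : ℕ} (hp2 : p ≠ 2) :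
    (oddFactor M).factorization p = 0 := by
  unfold oddFactor
  split_ifs <;> simp [Nat.prime_two.factorization, hp2.symm]

omit [DecidableEq α] in
theorem factorization_le_of_dvd {p x y : ℕ} (hx : x ≠ 0) (hy : y ≠ 0) (h : x ∣ y) :
    x.factorization p ≤ y.factorization p :=
  (Nat.factorization_le_iff_dvd hx hy).2 h p

/-- A subgroup of a group with an odd element has order dividing that group's, with the factor. -/
theorem card_mul_oddFactor_dvd {M K : Subgroup (Perm α)} (hMK : M ≤ K)
    (hK : ∃ g ∈ K, sign g = -1) : Nat.card M * oddFactor M ∣ Nat.card K := by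
  classical
  unfold oddFactor
  split_ifs with hA
  · obtain ⟨g, hgK, hg⟩ := hK
    set f : K →* ℤˣ := sign.comp K.subtype
    have hsur : Function.Surjective f := by
      intro u
      rcases Int.units_eq_one_or u with rfl | rfl
      · exact ⟨1, map_one _⟩
      · exact ⟨⟨g, hgK⟩, hg⟩
    have hidx : f.ker.index = 2 := by
      rw [Subgroup.index_ker, MonoidHom.range_eq_top.2 hsur, Subgroup.card_top,
        Nat.card_eq_fintype_card]
      rfl
    have hle : M.subgroupOf K ≤ f.ker := fun x hx => by
      rw [MonoidHom.mem_ker]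
      exact mem_alternatingGroup.1 (hA hx)
    have h1 : Nat.card (M.subgroupOf K) ∣ Nat.card f.ker := Subgroup.card_dvd_of_le hle
    rw [Nat.card_congr (Subgroup.subgroupOfEquivOfLe hMK).toEquiv] at h1
    rw [← f.ker.card_mul_index, hidx]
    exact Nat.mul_dvd_mul_right h1 2
  · rw [mul_one]
    exact Subgroup.card_dvd_of_le hMK

theorem NearHall.le_card {π : Set ℕ} {M K : Subgroup (Perm α)} (hM : NearHall π M) (hMK : M ≤ K)
    (hK : ∃ g ∈ K, sign g = -1) {p : ℕ} (hp : p.Prime) (hpπ : p ∈ π) :
    (Fintype.card α).factorial.factorization p ≤ (Nat.card K).factorization p :=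
  (hM.2 p hp hpπ).trans (factorization_le_of_dvd
    (mul_ne_zero Nat.card_pos.ne' (oddFactor_ne_zero M)) Nat.card_pos.ne'
    (card_mul_oddFactor_dvd hMK hK))

/-- For odd `p ∈ π` a near-Hall subgroup has index prime to `p`. -/
theorem NearHall.not_dvd_index {π : Set ℕ} {M : Subgroup (Perm α)} (hM : NearHall π M) {p : ℕ}
    (hp : p.Prime) (hpπ : p ∈ π) (hp2 : p ≠ 2) : ¬ p ∣ M.index := by
  intro hd
  have h := hM.2 p hp hpπ
  rw [Nat.factorization_mul Nat.card_pos.ne' (oddFactor_ne_zero M), Finsupp.add_apply,
    oddFactor_factorization hp2, Nat.add_zero] at h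
  have e : (Fintype.card α).factorial.factorization p =
      (Nat.card M).factorization p + M.index.factorization p := by
    rw [← Finsupp.add_apply, ← Nat.factorization_mul Nat.card_pos.ne' M.index_ne_zero_of_finite,
      M.card_mul_index, Nat.card_perm, Nat.card_eq_fintype_card]
  have := hp.factorization_pos_of_dvd M.index_ne_zero_of_finite hd
  omega

theorem nearHall_of_isPiHall {π : Set ℕ} {M : Subgroup (Perm α)} (h : IsPiHall π M) :
    NearHall π M := by
  refine ⟨h.1, fun p hp hpπ => ?_⟩
  have e : (Fintype.card α).factorial.factorization p =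
      (Nat.card M).factorization p + M.index.factorization p := by
    rw [← Finsupp.add_apply, ← Nat.factorization_mul Nat.card_pos.ne' M.index_ne_zero_of_finite,
      M.card_mul_index, Nat.card_perm, Nat.card_eq_fintype_card]
  rw [e, Nat.factorization_eq_zero_of_not_dvd (h.2 p hp hpπ), Nat.add_zero]
  exact factorization_le_of_dvd Nat.card_pos.ne'
    (mul_ne_zero Nat.card_pos.ne' (oddFactor_ne_zero M)) (dvd_mul_right _ _)

theorem nearHall_map_of_isPiHall [Nontrivial α] {π : Set ℕ} {M : Subgroup (alternatingGroup α)}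
    (h : IsPiHall π M) : NearHall π (M.map (alternatingGroup α).subtype) := by
  have hc : Nat.card (M.map (alternatingGroup α).subtype) = Nat.card M :=
    (Nat.card_congr (M.equivMapOfInjective _ (alternatingGroup α).subtype_injective).toEquiv).symm
  refine ⟨fun p hp hd => h.1 p hp (hc ▸ hd), fun p hp hpπ => ?_⟩
  have hle : M.map (alternatingGroup α).subtype ≤ alternatingGroup α := Subgroup.map_subtype_le M
  have e : (Fintype.card α).factorial = Nat.card M * 2 * M.index := by
    rw [← Fintype.card_perm, ← two_mul_card_alternatingGroup, ← Nat.card_eq_fintype_card,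
      ← M.card_mul_index]
    ring
  rw [e, hc, Nat.factorization_mul (mul_ne_zero Nat.card_pos.ne' two_ne_zero)
    M.index_ne_zero_of_finite, Finsupp.add_apply,
    Nat.factorization_eq_zero_of_not_dvd (h.2 p hp hpπ), Nat.add_zero]
  unfold oddFactor
  rw [if_pos hle]

/-! ### Stabilisers of the fibres of a map -/

variable {ι : Type*} [DecidableEq ι]

/-- The permutations preserving `f`. -/
def fiberPerm (f : α → ι) : Subgroup (Perm α) where
  carrier := {g | ∀ x, f (g x) = f x}
  mul_mem' {a b} ha hb x := by rw [Perm.mul_apply, ha, hb]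
  one_mem' _ := rfl
  inv_mem' {a} ha x := by rw [← ha (a⁻¹ x), Perm.coe_inv, Equiv.apply_symm_apply]

omit [Fintype α] [DecidableEq α] [DecidableEq ι] in
theorem mem_fiberPerm {f : α → ι} {g : Perm α} : g ∈ fiberPerm f ↔ ∀ x, f (g x) = f x :=
  Iff.rfl

omit [Fintype α] [DecidableEq ι] in
theorem swap_mem_fiberPerm {f : α → ι} {x y : α} (h : f x = f y) : swap x y ∈ fiberPerm f := by
  intro z
  rcases eq_or_ne z x with rfl | hzx
  · rw [swap_apply_left, h]
  rcases eq_or_ne z y with rfl | hzy
  · rw [swap_apply_right, h]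
  · rw [swap_apply_of_ne_of_ne hzx hzy]

theorem card_fiberPerm [Fintype ι] (f : α → ι) :
    Nat.card (fiberPerm f) = ∏ i, (Fintype.card {a // f a = i}).factorial := by
  rw [← DomMulAct.stabilizer_card f, ← Nat.card_eq_fintype_card]
  exact Nat.card_congr (Equiv.subtypeEquivRight fun g => by
    rw [mem_fiberPerm, funext_iff]; rfl)

/-- The permutations preserving `f` and fixing the fibre over `i`. -/
def fiberFix (f : α → ι) (i : ι) : Subgroup (Perm α) :=
  fiberPerm fun x => if f x = i then (Sum.inl x : α ⊕ ι) else Sum.inr (f x)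

omit [Fintype α] [DecidableEq α] in
theorem mem_fiberFix {f : α → ι} {i : ι} {g : Perm α} :
    g ∈ fiberFix f i ↔ g ∈ fiberPerm f ∧ ∀ x, f x = i → g x = x := by
  simp only [fiberFix, mem_fiberPerm]
  constructor
  · intro h
    refine ⟨fun x => ?_, fun x hx => ?_⟩
    · have := h x
      by_cases hx : f x = i <;> by_cases hgx : f (g x) = i <;> simp [hx, hgx] at this ⊢
      exact this
    · have := h x
      by_cases hgx : f (g x) = i <;> simp [hx, hgx] at this
      exact this
  · rintro ⟨h1, h2⟩ x
    by_cases hx : f x = i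
    · simp [h2 x hx]
    · simp [h1 x, hx]

/-- Restriction to a fibre. -/
def fiberRes (f : α → ι) (i : ι) : fiberPerm f →* Perm {x // f x = i} where
  toFun g := (g : Perm α).subtypePerm fun x => by rw [mem_fiberPerm.1 g.2 x]
  map_one' := by ext x; rfl
  map_mul' a b := by ext x; rfl

omit [Fintype α] [DecidableEq α] in
theorem fiberRes_surjective (f : α → ι) (i : ι) : Function.Surjective (fiberRes f i) := by
  intro σ
  refine ⟨⟨ofSubtype σ, fun x => ?_⟩, ?_⟩
  · by_cases hx : f x = i
    · rw [ofSubtype_apply_of_mem σ hx, hx]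
      exact (σ ⟨x, hx⟩).2
    · rw [ofSubtype_apply_of_not_mem σ hx]
  · ext x
    simp [fiberRes]

omit [Fintype α] [DecidableEq α] in
theorem ker_fiberRes (f : α → ι) (i : ι) :
    (fiberRes f i).ker = (fiberFix f i).subgroupOf (fiberPerm f) := by
  ext g
  rw [MonoidHom.mem_ker, Subgroup.mem_subgroupOf, mem_fiberFix]
  constructor
  · intro h
    exact ⟨g.2, fun x hx => congrArg Subtype.val (Equiv.ext_iff.1 h ⟨x, hx⟩)⟩
  · intro h
    ext x
    exact h.2 x.1 x.2

theorem fiberFix_le (f : α → ι) (i : ι) : fiberFix f i ≤ fiberPerm f := fun _ hg =>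
  (mem_fiberFix.1 hg).1

theorem card_fiberPerm_eq_mul (f : α → ι) (i : ι) :
    Nat.card (fiberPerm f) =
      (Fintype.card {x // f x = i}).factorial * Nat.card (fiberFix f i) := by
  rw [Subgroup.card_eq_card_quotient_mul_card_subgroup (fiberRes f i).ker,
    Nat.card_congr (QuotientGroup.quotientKerEquivOfSurjective _
      (fiberRes_surjective f i)).toEquiv, Nat.card_perm, Nat.card_eq_fintype_card,
    ker_fiberRes, Nat.card_congr (Subgroup.subgroupOfEquivOfLe (fiberFix_le f i)).toEquiv]

theorem isPiSubgroup_map {π : Set ℕ} {G G' : Type*} [Group G] [Finite G] [Group G']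
    {M : Subgroup G} (hM : ∀ p : ℕ, p.Prime → p ∣ Nat.card M → p ∈ π) (F : G →* G') (p : ℕ)
    (hp : p.Prime) (hd : p ∣ Nat.card (M.map F)) : p ∈ π :=
  hM p hp (hd.trans (M.card_map_dvd F))

set_option maxHeartbeats 1600000 in
/-- The image in a fibre of a `π`-group inside `fiberPerm f` of full `π`-part is a Hall subgroup,
as soon as the kernel has an odd element. -/
theorem isPiHall_fiberImage {π : Set ℕ} {f : α → ι} (i : ι) {M : Subgroup (Perm α)}
    (hMf : M ≤ fiberPerm f) (hπ : IsPiSubgroup π M)
    (hfull : ∀ p : ℕ, p.Prime → p ∈ π →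
      (Nat.card (fiberPerm f)).factorization p ≤ (Nat.card M * oddFactor M).factorization p)
    (hodd : ∃ g ∈ fiberFix f i, sign g = -1) :
    IsPiHall π ((M.subgroupOf (fiberPerm f)).map (fiberRes f i)) := by
  set M' := M.subgroupOf (fiberPerm f) with hM'
  have hc : Nat.card M' = Nat.card M :=
    Nat.card_congr (Subgroup.subgroupOfEquivOfLe hMf).toEquiv
  refine ⟨isPiSubgroup_map (fun p hp hd => hπ p hp (hc ▸ hd)) _, fun p hp hpπ hd => ?_⟩
  set φ := (fiberRes f i).comp M'.subtype with hφ
  have hr : φ.range = M'.map (fiberRes f i) := by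
    rw [hφ, MonoidHom.range_comp, Subgroup.range_subtype]
  have hk : Nat.card φ.ker = Nat.card (M ⊓ fiberFix f i : Subgroup (Perm α)) := by
    refine Nat.card_congr ⟨fun x => ⟨x.1.1.1, x.1.2, ?_⟩,
      fun x => ⟨⟨⟨x.1, hMf x.2.1⟩, x.2.1⟩, ?_⟩, fun x => rfl, fun x => rfl⟩
    · have := x.2
      rw [MonoidHom.mem_ker] at this
      have h' : x.1.1 ∈ (fiberRes f i).ker := this
      rwa [ker_fiberRes, Subgroup.mem_subgroupOf] at h'
    · rw [MonoidHom.mem_ker]
      show (fiberRes f i) _ = 1
      rw [← MonoidHom.mem_ker, ker_fiberRes, Subgroup.mem_subgroupOf]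
      exact x.2.2
  have hcard : Nat.card M = Nat.card (M'.map (fiberRes f i)) * Nat.card φ.ker := by
    rw [← hc, ← hr, ← Subgroup.index_ker, Subgroup.index_mul_card]
  have hdvd : Nat.card M * oddFactor M ∣
      Nat.card (M'.map (fiberRes f i)) * Nat.card (fiberFix f i) := by
    rw [hcard, mul_assoc, hk]
    exact mul_dvd_mul_left _ ((mul_dvd_mul_left _ (oddFactor_mono inf_le_left)).trans
      (card_mul_oddFactor_dvd inf_le_right hodd))
  have h1 := (hfull p hp hpπ).trans (factorization_le_of_dvd
    (mul_ne_zero Nat.card_pos.ne' (oddFactor_ne_zero M))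
    (mul_ne_zero Nat.card_pos.ne' Nat.card_pos.ne') hdvd)
  have h2 := (M'.map (fiberRes f i)).card_mul_index
  rw [Nat.card_perm, Nat.card_eq_fintype_card (α := {x // f x = i})] at h2
  rw [card_fiberPerm_eq_mul f i, ← h2,
    Nat.factorization_mul (mul_ne_zero Nat.card_pos.ne' Subgroup.index_ne_zero_of_finite)
      Nat.card_pos.ne', Nat.factorization_mul Nat.card_pos.ne' Subgroup.index_ne_zero_of_finite,
    Nat.factorization_mul Nat.card_pos.ne' Nat.card_pos.ne'] at h1
  simp only [Finsupp.add_apply] at h1
  have := hp.factorization_pos_of_dvd Subgroup.index_ne_zero_of_finite hd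
  omega

/-! ### A set and its complement -/

/-- The indicator of a finite set. -/
def ind (s : Finset α) (x : α) : Bool := decide (x ∈ s)

theorem card_ind_true (s : Finset α) : Fintype.card {a // ind s a = true} = s.card := by
  rw [← Fintype.card_coe s]
  exact Fintype.card_congr (Equiv.subtypeEquivRight fun x => by simp [ind])

theorem card_ind_false (s : Finset α) :
    Fintype.card {a // ind s a = false} = Fintype.card α - s.card := by
  rw [← Finset.card_compl, ← Fintype.card_coe sᶜ]
  exact Fintype.card_congr (Equiv.subtypeEquivRight fun x => by simp [ind])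

theorem card_fiberPerm_ind (s : Finset α) :
    Nat.card (fiberPerm (ind s)) = s.card.factorial * (Fintype.card α - s.card).factorial := by
  rw [card_fiberPerm, Fintype.prod_bool, card_ind_true, card_ind_false]

theorem mem_fiberPerm_ind {s : Finset α} {g : Perm α} :
    g ∈ fiberPerm (ind s) ↔ s.image g = s := by
  constructor
  · intro h
    refine Finset.eq_of_subset_of_card_le (fun y hy => ?_) (by
      rw [Finset.card_image_of_injective s g.injective])
    obtain ⟨x, hx, rfl⟩ := Finset.mem_image.1 hy
    simpa [ind, hx] using h x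
  · intro h x
    simp only [ind, decide_eq_decide]
    constructor
    · intro hx
      rw [← h] at hx
      obtain ⟨y, hy, e⟩ := Finset.mem_image.1 hx
      rwa [← g.injective e]
    · intro hx
      rw [← h]
      exact Finset.mem_image_of_mem g hx

/-- `π`-primes do not divide the binomial coefficient of an invariant set. -/
theorem NearHall.not_dvd_choose {π : Set ℕ} {M : Subgroup (Perm α)} (hM : NearHall π M)
    {s : Finset α} (hMs : M ≤ fiberPerm (ind s)) (hodd : ∃ g ∈ fiberPerm (ind s), sign g = -1)
    {p : ℕ} (hp : p.Prime) (hpπ : p ∈ π) : ¬ p ∣ (Fintype.card α).choose s.card := by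
  intro hd
  have h := hM.le_card hMs hodd hp hpπ
  rw [card_fiberPerm_ind] at h
  have hle : s.card ≤ Fintype.card α := s.card_le_univ
  have e := Nat.choose_mul_factorial_mul_factorial hle
  rw [← e, mul_assoc, Nat.factorization_mul (Nat.choose_pos hle).ne'
    (mul_ne_zero (Nat.factorial_ne_zero _) (Nat.factorial_ne_zero _)), Finsupp.add_apply] at h
  have := hp.factorization_pos_of_dvd (Nat.choose_pos hle).ne' hd
  omega

theorem exists_odd_of_two {K : Subgroup (Perm α)} {x y : α} (hxy : x ≠ y) (h : swap x y ∈ K) :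
    ∃ g ∈ K, sign g = -1 :=
  ⟨swap x y, h, sign_swap hxy⟩

/-- An element of `p`-power order has a conjugate in every subgroup of index prime to `p`. -/
theorem exists_conj_mem {G : Type*} [Group G] [Finite G] {p : ℕ} [Fact p.Prime] (H : Subgroup G)
    (hH : ¬ p ∣ H.index) {R : Subgroup G} (hR : IsPGroup p R) :
    ∃ g : G, ∀ r ∈ R, g⁻¹ * r * g ∈ H := by
  obtain ⟨x, hx⟩ := hR.nonempty_fixed_point_of_prime_not_dvd_card (G ⧸ H)
    (by rwa [← Subgroup.index_eq_card])
  obtain ⟨g, rfl⟩ := QuotientGroup.mk_surjective x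
  refine ⟨g, fun r hr => ?_⟩
  have h2 : ((r * g : G) : G ⧸ H) = (g : G ⧸ H) := hx ⟨r, hr⟩
  rw [← H.inv_mem_iff, show (g⁻¹ * r * g)⁻¹ = (r * g)⁻¹ * g by group]
  exact (QuotientGroup.eq).1 h2

end Cfsg.Lib.HallSym
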