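import Cfsg.Agent.Lib.Perm.HallSym.Basic
import Cfsg.Agent.Lib.Fusion.Jordan
import Mathlib.GroupTheory.SpecificGroups.Alternating.KleinFour

/-!
# No primitive near-Hall subgroups

A primitive near-Hall `π`-subgroup, `π` containing two primes `≤ n` and missing one, does not
exist: a cycle of prime length (Jordan), or two Klein four-groups with overlapping supports, would
bring every prime `≤ n` into `π`.
-/

set_option autoImplicit false

namespace Cfsg.Lib.HallSym

open Equiv Equiv.Perm MulAction
open scoped Pointwise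

variable {α : Type*} [Fintype α] [DecidableEq α]

/-- `M` contains all double transpositions with support `s`. -/
def HasKlein (M : Subgroup (Perm α)) (s : Finset α) : Prop :=
  ∀ a ∈ s, ∀ b ∈ s, ∀ c ∈ s, ∀ d ∈ s, a ≠ b → c ≠ d → a ≠ c → a ≠ d → b ≠ c → b ≠ d →
    swap a b * swap c d ∈ M

omit [Fintype α] in
theorem conj_swap_mul_swap (g : Perm α) (a b c d : α) :
    g * (swap a b * swap c d) * g⁻¹ = swap (g a) (g b) * swap (g c) (g d) := by
  rw [Equiv.swap_apply_apply, Equiv.swap_apply_apply]
  group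

theorem swap_commute {a b c d : α} (hac : a ≠ c) (had : a ≠ d) (hbc : b ≠ c) (hbd : b ≠ d) :
    Commute (swap a b) (swap c d) := by
  rcases eq_or_ne a b with rfl | hab
  · rw [swap_self]; exact Commute.one_left _
  rcases eq_or_ne c d with rfl | hcd
  · rw [swap_self]; exact Commute.one_right _
  refine Perm.Disjoint.commute ?_
  rw [disjoint_iff_disjoint_support, support_swap hab, support_swap hcd]
  simp [hac.symm, had.symm, hbc.symm, hbd.symm]

/-- An even `p`-element with support of the shape we need: conjugates land in `M`. -/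
theorem exists_cycle_mem {π : Set ℕ} {M : Subgroup (Perm α)} (hM : NearHall π M) {p : ℕ}
    (hp : p.Prime) (hpπ : p ∈ π) (hp2 : p ≠ 2) (hpn : p ≤ Fintype.card α) :
    ∃ g ∈ M, g.IsCycle ∧ g.support.card = p := by
  have := Fact.mk hp
  obtain ⟨σ, hσ⟩ : ∃ σ : Perm α, σ.cycleType = {p} := by
    rw [exists_with_cycleType_iff]
    refine ⟨by simpa using hpn, fun a ha => ?_⟩
    rw [Multiset.mem_singleton] at ha
    rw [ha]; exact hp.two_le
  have ho : orderOf σ = p := by rw [← lcm_cycleType, hσ, Multiset.lcm_singleton]; simp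
  have hR : IsPGroup p (Subgroup.zpowers σ) :=
    IsPGroup.of_card (n := 1) (by rw [Nat.card_zpowers, ho, pow_one])
  obtain ⟨g, hg⟩ := exists_conj_mem M (hM.not_dvd_index hp hpπ hp2) hR
  have hct : (g⁻¹ * σ * g).cycleType = {p} := by
    have := cycleType_conj (σ := σ) (τ := g⁻¹)
    rw [inv_inv] at this
    rw [this, hσ]
  exact ⟨_, hg σ (Subgroup.mem_zpowers σ),
    card_cycleType_eq_one.1 (by rw [hct]; simp), by rw [← sum_cycleType, hct]; simp⟩

theorem not_dvd_relIndex_alternating [Nontrivial α] {π : Set ℕ} {M : Subgroup (Perm α)}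
    (hM : NearHall π M) (h2π : 2 ∈ π) :
    ¬ 2 ∣ ((M ⊓ alternatingGroup α).subgroupOf (alternatingGroup α)).index := by
  classical
  intro hd
  set H := (M ⊓ alternatingGroup α).subgroupOf (alternatingGroup α) with hH
  have hc : Nat.card H = Nat.card (M ⊓ alternatingGroup α : Subgroup (Perm α)) :=
    Nat.card_congr (Subgroup.subgroupOfEquivOfLe inf_le_right).toEquiv
  have hdvd : Nat.card M * oddFactor M ∣ Nat.card H * 2 := by
    rw [hc]
    unfold oddFactor
    split_ifs with hA
    · rw [inf_eq_left.2 hA]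
    · rw [mul_one]
      set f : M →* ℤˣ := sign.comp M.subtype
      have hk : Nat.card f.ker = Nat.card (M ⊓ alternatingGroup α : Subgroup (Perm α)) :=
        Nat.card_congr ⟨fun x => ⟨x.1.1, x.1.2, mem_alternatingGroup.2 x.2⟩,
          fun x => ⟨⟨x.1, x.2.1⟩, mem_alternatingGroup.1 x.2.2⟩, fun _ => rfl, fun _ => rfl⟩
      rw [← f.ker.card_mul_index, Subgroup.index_ker, hk]
      refine mul_dvd_mul_left _ (f.range.card_subgroup_dvd_card.trans ?_)
      simp
  have e : (Fintype.card α).factorial = Nat.card H * 2 * H.index := by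
    rw [← Fintype.card_perm, ← two_mul_card_alternatingGroup, ← Nat.card_eq_fintype_card,
      ← H.card_mul_index]
    ring
  have h := (hM.2 2 Nat.prime_two h2π).trans (factorization_le_of_dvd
    (mul_ne_zero Nat.card_pos.ne' (oddFactor_ne_zero M))
    (mul_ne_zero Nat.card_pos.ne' two_ne_zero) hdvd)
  rw [e, Nat.factorization_mul (mul_ne_zero Nat.card_pos.ne' two_ne_zero)
    H.index_ne_zero_of_finite, Finsupp.add_apply] at h
  have := Nat.prime_two.factorization_pos_of_dvd H.index_ne_zero_of_finite hd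
  omega

theorem exists_hasKlein {π : Set ℕ} {M : Subgroup (Perm α)} (hM : NearHall π M) (h2π : 2 ∈ π)
    (hn : 4 ≤ Fintype.card α) : ∃ s : Finset α, s.card = 4 ∧ HasKlein M s := by
  classical
  have : Nontrivial α := Fintype.one_lt_card_iff_nontrivial.1 (by omega)
  obtain ⟨t, -, ht⟩ :=
    Finset.exists_subset_card_eq (s := (Finset.univ : Finset α)) (n := 4) (by simpa using hn)
  have ht4 : Nat.card {x // x ∈ t} = 4 := by simp [ht]
  set F : alternatingGroup {x // x ∈ t} →* alternatingGroup α :=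
    ((ofSubtype (p := fun x => x ∈ t)).comp (alternatingGroup {x // x ∈ t}).subtype).codRestrict _
      (fun x => mem_alternatingGroup.2 (by
        rw [MonoidHom.comp_apply, sign_ofSubtype]; exact mem_alternatingGroup.1 x.2)) with hF
  have hR : IsPGroup 2 ((alternatingGroup.kleinFour {x // x ∈ t}).map F) :=
    (IsPGroup.of_card (n := 2) (by
      rw [alternatingGroup.kleinFour_card_of_card_eq_four ht4]; norm_num)).map F
  obtain ⟨g, hg⟩ := exists_conj_mem _ (not_dvd_relIndex_alternating hM h2π) hR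
  refine ⟨t.image (fun x => (g : Perm α)⁻¹ x), by rw [Finset.card_image_of_injective _ (Equiv.injective _), ht],
    fun a ha b hb c hc d hd hab hcd hac had hbc hbd => ?_⟩
  obtain ⟨a, ha', rfl⟩ := Finset.mem_image.1 ha
  obtain ⟨b, hb', rfl⟩ := Finset.mem_image.1 hb
  obtain ⟨c, hc', rfl⟩ := Finset.mem_image.1 hc
  obtain ⟨d, hd', rfl⟩ := Finset.mem_image.1 hd
  have hne : ∀ {x y : α}, (g : Perm α)⁻¹ x ≠ (g : Perm α)⁻¹ y → x ≠ y :=
    fun h e => h (congrArg _ e)
  set v : Perm {x // x ∈ t} := swap ⟨a, ha'⟩ ⟨b, hb'⟩ * swap ⟨c, hc'⟩ ⟨d, hd'⟩ with hv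
  have hva : v ∈ alternatingGroup {x // x ∈ t} := by
    rw [mem_alternatingGroup, hv, Perm.sign_mul, sign_swap (by simpa using hne hab),
      sign_swap (by simpa using hne hcd)]
    rfl
  have hvK : (⟨v, hva⟩ : alternatingGroup {x // x ∈ t}) ∈ alternatingGroup.kleinFour _ := by
    refine Subgroup.subset_closure ?_
    show v.cycleType = {2, 2}
    rw [hv, Perm.Disjoint.cycleType_mul, isSwap_iff_cycleType.1 ⟨_, _, by simpa using hne hab, rfl⟩,
      isSwap_iff_cycleType.1 ⟨_, _, by simpa using hne hcd, rfl⟩]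
    · rfl
    · rw [disjoint_iff_disjoint_support, support_swap (by simpa using hne hab),
        support_swap (by simpa using hne hcd)]
      simp [(hne hac).symm, (hne had).symm, (hne hbc).symm, (hne hbd).symm]
  have h := hg (F ⟨v, hva⟩) (Subgroup.mem_map_of_mem F hvK)
  rw [Subgroup.mem_subgroupOf] at h
  have hFv : (F ⟨v, hva⟩ : Perm α) = swap a b * swap c d := by
    rw [hF, MonoidHom.codRestrict_apply]
    simp [hv, ofSubtype_swap_eq]
  have h' := h.1
  simp only [Subgroup.coe_mul, InvMemClass.coe_inv, hFv] at h'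
  rw [← conj_swap_mul_swap, inv_inv]
  exact h'

theorem HasKlein.conj {M : Subgroup (Perm α)} {s : Finset α} (hs : HasKlein M s) {g : Perm α}
    (hg : g ∈ M) : HasKlein M (s.image g) := by
  intro a ha b hb c hc d hd hab hcd hac had hbc hbd
  obtain ⟨a, ha', rfl⟩ := Finset.mem_image.1 ha
  obtain ⟨b, hb', rfl⟩ := Finset.mem_image.1 hb
  obtain ⟨c, hc', rfl⟩ := Finset.mem_image.1 hc
  obtain ⟨d, hd', rfl⟩ := Finset.mem_image.1 hd
  have hne : ∀ {x y : α}, g x ≠ g y → x ≠ y := fun h e => h (congrArg _ e)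
  rw [← conj_swap_mul_swap]
  exact M.mul_mem (M.mul_mem hg (hs a ha' b hb' c hc' d hd' (hne hab) (hne hcd) (hne hac) (hne had)
    (hne hbc) (hne hbd))) (M.inv_mem hg)

/-- Two Klein four-groups with properly overlapping supports give an element of order `3`. -/
theorem three_dvd_of_overlap {M : Subgroup (Perm α)} {s t : Finset α} (hs : HasKlein M s)
    (ht : HasKlein M t) (hsc : s.card = 4) (htc : t.card = 4) (h1 : (s ∩ t).Nonempty)
    (h2 : s ≠ t) : 3 ∣ Nat.card M := by
  have hle : (s ∩ t).card ≤ 3 := by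
    by_contra h
    have e1 : s ∩ t = s := Finset.eq_of_subset_of_card_le Finset.inter_subset_left (by omega)
    have e2 : s ∩ t = t := Finset.eq_of_subset_of_card_le Finset.inter_subset_right (by omega)
    exact h2 (e1.symm.trans e2)
  have hst : (s \ t).card = 4 - (s ∩ t).card := by
    have := Finset.card_sdiff_add_card_inter s t; omega
  have hts : (t \ s).card = 4 - (s ∩ t).card := by
    have := Finset.card_sdiff_add_card_inter t s
    rw [Finset.inter_comm] at this; omega
  have hmem : ∀ x ∈ s ∩ t, x ∈ s ∧ x ∈ t := fun x hx => Finset.mem_inter.1 hx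
  have hmS : ∀ x ∈ s \ t, x ∈ s ∧ x ∉ t := fun x hx => Finset.mem_sdiff.1 hx
  have hmT : ∀ x ∈ t \ s, x ∈ t ∧ x ∉ s := fun x hx => Finset.mem_sdiff.1 hx
  suffices ∃ z ∈ M, orderOf z = 3 by
    obtain ⟨z, hz, hz3⟩ := this
    have := orderOf_dvd_natCard (⟨z, hz⟩ : M)
    rwa [Subgroup.orderOf_mk, hz3] at this
  have hpos : 0 < (s ∩ t).card := Finset.card_pos.2 h1
  rcases (by omega : (s ∩ t).card = 1 ∨ (s ∩ t).card = 2 ∨ (s ∩ t).card = 3) with hc | hc | hc
  · obtain ⟨a, ea⟩ := Finset.card_eq_one.1 hc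
    obtain ⟨b, c, d, hbc, hbd, hcd, eS⟩ := Finset.card_eq_three.1 (by omega : (s \ t).card = 3)
    obtain ⟨e, f, g, hef, heg, hfg, eT⟩ := Finset.card_eq_three.1 (by omega : (t \ s).card = 3)
    simp [ea] at hmem; simp [eS] at hmS; simp [eT] at hmT
    obtain ⟨⟨bs, bt⟩, ⟨cs, ct⟩, ds, dt⟩ := hmS
    obtain ⟨⟨et, es⟩, ⟨ft, fs⟩, gt, gs⟩ := hmT
    obtain ⟨as_, at_⟩ := hmem
    have nb : ∀ {x y : α}, x ∈ s → y ∉ s → x ≠ y := fun hx hy e => hy (e ▸ hx)
    have nt : ∀ {x y : α}, x ∈ t → y ∉ t → x ≠ y := fun hx hy e => hy (e ▸ hx)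
    have hab := nt at_ bt
    have hac := nt at_ ct
    have had := nt at_ dt
    have hae := nb as_ es
    have haf := nb as_ fs
    have hag := nb as_ gs
    have hx := hs a as_ b bs c cs d ds hab hcd hac had hbc hbd
    have hy := ht a at_ e et f ft g gt hae hfg haf hag hef heg
    refine ⟨(swap a b * swap c d * (swap a e * swap f g)) ^ 2,
      M.pow_mem (M.mul_mem hx hy) 2, ?_⟩
    have hcom : Commute (swap a b * swap a e) (swap c d * swap f g) :=
      Commute.mul_left
        ((swap_commute hac had hbc hbd).mul_right (swap_commute haf hag (nb bs fs) (nb bs gs)))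
        ((swap_commute hac had (nb cs es).symm (nb ds es).symm).mul_right
          (swap_commute haf hag hef heg))
    have e1 : swap a b * swap c d * (swap a e * swap f g) =
        swap a b * swap a e * (swap c d * swap f g) := by
      have := (swap_commute hac.symm (nb cs es) had.symm (nb ds es)).eq
      rw [mul_assoc, ← mul_assoc (swap c d), this]
      simp only [mul_assoc]
    have hu : (swap c d * swap f g) ^ 2 = 1 := by
      rw [(swap_commute (nb cs fs) (nb cs gs) (nb ds fs) (nb ds gs)).mul_pow, pow_two, pow_two,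
        swap_mul_self, swap_mul_self, mul_one]
    have h3 := (isThreeCycle_swap_mul_swap_same hab hae (nb bs es)).orderOf
    rw [e1, hcom.mul_pow, hu, mul_one, orderOf_pow' _ two_ne_zero, h3]
    norm_num
  · obtain ⟨a, b, hab, ea⟩ := Finset.card_eq_two.1 hc
    obtain ⟨c, d, hcd, eS⟩ := Finset.card_eq_two.1 (by omega : (s \ t).card = 2)
    obtain ⟨e, f, hef, eT⟩ := Finset.card_eq_two.1 (by omega : (t \ s).card = 2)
    simp [ea] at hmem; simp [eS] at hmS; simp [eT] at hmT
    obtain ⟨⟨cs, ct⟩, ds, dt⟩ := hmS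
    obtain ⟨⟨et, es⟩, ft, fs⟩ := hmT
    obtain ⟨⟨as_, at_⟩, bs, bt⟩ := hmem
    have nb : ∀ {x y : α}, x ∈ s → y ∉ s → x ≠ y := fun hx hy e => hy (e ▸ hx)
    have nt : ∀ {x y : α}, x ∈ t → y ∉ t → x ≠ y := fun hx hy e => hy (e ▸ hx)
    have hac := nt at_ ct
    have had := nt at_ dt
    have hbc := nt bt ct
    have hbd := nt bt dt
    have hae := nb as_ es
    have haf := nb as_ fs
    have hbe := nb bs es
    have hbf := nb bs fs
    have hx := hs a as_ c cs b bs d ds hac hbd hab had hbc.symm hcd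
    have hy := ht a at_ e et b bt f ft hae hbf hab haf hbe.symm hef
    refine ⟨swap a c * swap b d * (swap a e * swap b f), M.mul_mem hx hy, ?_⟩
    have hcom : Commute (swap a c * swap a e) (swap b d * swap b f) :=
      Commute.mul_left
        ((swap_commute hab had hbc.symm hcd).mul_right (swap_commute hab haf hbc.symm (nb cs fs)))
        ((swap_commute hab had hbe.symm (nb ds es).symm).mul_right
          (swap_commute hab haf hbe.symm hef))
    have e1 : swap a c * swap b d * (swap a e * swap b f) =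
        swap a c * swap a e * (swap b d * swap b f) := by
      have := (swap_commute hab.symm hbe had.symm (nb ds es)).eq
      rw [mul_assoc, ← mul_assoc (swap b d), this]
      simp only [mul_assoc]
    refine orderOf_eq_prime ?_ ?_
    · rw [e1, hcom.mul_pow]
      have p1 := pow_orderOf_eq_one (swap a c * swap a e)
      have p2 := pow_orderOf_eq_one (swap b d * swap b f)
      rw [(isThreeCycle_swap_mul_swap_same hac hae (nb cs es)).orderOf] at p1
      rw [(isThreeCycle_swap_mul_swap_same hbd hbf (nb ds fs)).orderOf] at p2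
      rw [p1, p2, mul_one]
    · intro h
      have := Equiv.ext_iff.1 h a
      simp only [Perm.mul_apply, Perm.one_apply, swap_apply_of_ne_of_ne hab haf, swap_apply_left,
        swap_apply_of_ne_of_ne hbe.symm (nb ds es).symm,
        swap_apply_of_ne_of_ne hae.symm (nb cs es).symm] at this
      exact hae this.symm
  · obtain ⟨a, b, c, hab, hac, hbc, ea⟩ := Finset.card_eq_three.1 hc
    obtain ⟨d, eS⟩ := Finset.card_eq_one.1 (by omega : (s \ t).card = 1)
    obtain ⟨e, eT⟩ := Finset.card_eq_one.1 (by omega : (t \ s).card = 1)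
    simp [ea] at hmem; simp [eS] at hmS; simp [eT] at hmT
    obtain ⟨ds, dt⟩ := hmS
    obtain ⟨et, es⟩ := hmT
    obtain ⟨⟨as_, at_⟩, ⟨bs, bt⟩, cs, ct⟩ := hmem
    have nb : ∀ {x y : α}, x ∈ s → y ∉ s → x ≠ y := fun hx hy e => hy (e ▸ hx)
    have nt : ∀ {x y : α}, x ∈ t → y ∉ t → x ≠ y := fun hx hy e => hy (e ▸ hx)
    have hx := hs a as_ b bs c cs d ds hab (nt ct dt) hac (nt at_ dt) hbc (nt bt dt)
    have hy := ht a at_ b bt c ct e et hab (nb cs es) hac (nb as_ es) hbc (nb bs es)
    refine ⟨swap a b * swap c d * (swap a b * swap c e), M.mul_mem hx hy, ?_⟩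
    have e1 : swap a b * swap c d * (swap a b * swap c e) = swap c d * swap c e := by
      rw [(swap_commute hac (nt at_ dt) hbc (nt bt dt)).eq, mul_assoc,
        swap_mul_self_mul]
    rw [e1]
    exact (isThreeCycle_swap_mul_swap_same (nt ct dt) (nb cs es) (nb ds es)).orderOf

theorem alternating_all {π : Set ℕ} {M : Subgroup (Perm α)} (hM : NearHall π M)
    (hA : alternatingGroup α ≤ M) (hn : 4 ≤ Fintype.card α) (r : ℕ) (hr : r.Prime)
    (hrn : r ≤ Fintype.card α) : r ∈ π := by
  have : Nontrivial α := Fintype.one_lt_card_iff_nontrivial.1 (by omega)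
  refine hM.1 r hr (Nat.dvd_trans ?_ (Subgroup.card_dvd_of_le hA))
  have e : (Fintype.card α).factorial = 2 * Fintype.card (alternatingGroup α) := by
    rw [two_mul_card_alternatingGroup, Fintype.card_perm]
  rw [Nat.card_eq_fintype_card]
  rcases eq_or_ne r 2 with rfl | hr2
  · have h4 : 4 ∣ 2 * Fintype.card (alternatingGroup α) :=
      e ▸ (show 4 ∣ Nat.factorial 4 by decide).trans (Nat.factorial_dvd_factorial hn)
    omega
  · have hd : r ∣ 2 * Fintype.card (alternatingGroup α) := e ▸ Nat.dvd_factorial hr.pos hrn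
    exact (hr.dvd_mul.1 hd).resolve_left
      fun h => hr2 ((Nat.prime_dvd_prime_iff_eq hr Nat.prime_two).1 h)

theorem factorial_factorization_one {p n : ℕ} (hp : p.Prime) (h1 : p ≤ n) (h2 : n < 2 * p) :
    n.factorial.factorization p = 1 := by
  have := Fact.mk hp
  rw [Nat.factorization_def _ hp, show n = p * 1 + (n - p) by omega,
    padicValNat_factorial_mul_add 1 (by omega), padicValNat_factorial_mul]
  simp

theorem not_two_odd_primes {π : Set ℕ} {M : Subgroup (Perm α)} (hM : NearHall π M)
    (htr : IsPretransitive M α) {p q : ℕ} (hp : p.Prime) (hq : q.Prime) (hpπ : p ∈ π)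
    (hqπ : q ∈ π) (hp2 : p ≠ 2) (hq2 : q ≠ 2) (hpq : p < q) (hqn : q ≤ Fintype.card α)
    (hpn : Fintype.card α ≤ p + 2)
    (hP : ∀ r : ℕ, r.Prime → r ∈ π → r ≤ Fintype.card α → r = p ∨ r = q) : False := by
  classical
  have hpodd := Nat.odd_iff.1 (hp.odd_of_ne_two hp2)
  have hqodd := Nat.odd_iff.1 (hq.odd_of_ne_two hq2)
  have hp3 : 3 ≤ p := by have := hp.two_le; omega
  have hn : Fintype.card α = p + 2 := by omega
  have hqe : q = p + 2 := by omega
  have hMd : Nat.card M ∣ (Fintype.card α).factorial := by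
    rw [← Fintype.card_perm, ← Nat.card_eq_fintype_card]; exact M.card_subgroup_dvd_card
  have hval : ∀ r, r = p ∨ r = q → r.Prime → r ∈ π → r ≠ 2 →
      (Nat.card M).factorization r = 1 := by
    intro r hr hrp hrπ hr2
    have e := factorial_factorization_one (n := Fintype.card α) hrp (by omega) (by omega)
    have h1 := hM.2 r hrp hrπ
    rw [Nat.factorization_mul Nat.card_pos.ne' (oddFactor_ne_zero M), Finsupp.add_apply,
      oddFactor_factorization hr2, Nat.add_zero, e] at h1
    have h2 := factorization_le_of_dvd (p := r) Nat.card_pos.ne' (Nat.factorial_ne_zero _) hMd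
    omega
  have vp := hval p (Or.inl rfl) hp hpπ hp2
  have vq := hval q (Or.inr rfl) hq hqπ hq2
  have hcard : Nat.card M = p * q := by
    refine Nat.eq_of_factorization_eq Nat.card_pos.ne' (mul_ne_zero hp.ne_zero hq.ne_zero) fun r => ?_
    rw [Nat.factorization_mul hp.ne_zero hq.ne_zero, Finsupp.add_apply, hp.factorization,
      hq.factorization]
    rcases eq_or_ne r p with rfl | h1
    · rw [Finsupp.single_eq_same, Finsupp.single_eq_of_ne (by omega), vp, Nat.add_zero]
    rcases eq_or_ne r q with rfl | h2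
    · rw [Finsupp.single_eq_same, Finsupp.single_eq_of_ne (by omega), vq, Nat.zero_add]
    rw [Finsupp.single_eq_of_ne h1, Finsupp.single_eq_of_ne h2, Nat.add_zero]
    by_cases hr : r.Prime
    · by_cases hd : r ∣ Nat.card M
      · exact absurd (hP r hr (hM.1 r hr hd) ((Nat.Prime.dvd_factorial hr).1 (hd.trans hMd)))
          (by simp [h1, h2])
      · rw [Nat.factorization_eq_zero_of_not_dvd hd]
    · rw [Nat.factorization_eq_zero_of_not_prime _ hr]
  have := Fact.mk hp
  obtain ⟨P⟩ : Nonempty (Sylow p M) := Sylow.nonempty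
  have hPc : Nat.card (P : Subgroup M) = p := by rw [Sylow.card_eq_multiplicity, vp, pow_one]
  have hPi : (P : Subgroup M).index = q := by
    have := (P : Subgroup M).card_mul_index
    rw [hPc, hcard] at this
    exact Nat.eq_of_mul_eq_mul_left hp.pos this
  have hone : Nat.card (Sylow p M) = 1 := by
    have h1 := P.card_dvd_index
    rw [hPi] at h1
    rcases (Nat.dvd_prime hq).1 h1 with h | h
    · exact h
    · exfalso
      have h2 := card_sylow_modEq_one p M
      rw [h, hqe, Nat.ModEq, Nat.add_mod_left, Nat.mod_eq_of_lt (by omega),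
        Nat.mod_eq_of_lt (by omega)] at h2
      omega
  have : Subsingleton (Sylow p M) := (Nat.card_eq_one_iff_unique.1 hone).1
  have hPn : (P : Subgroup M).Normal := Sylow.normal_of_subsingleton P
  have hfix : (fixedPoints (P : Subgroup M) α).Nonempty := by
    rw [Set.nonempty_iff_ne_empty]
    intro h0
    have h := P.isPGroup'.card_modEq_card_fixedPoints α
    rw [h0, Nat.card_eq_fintype_card (α := α), hn] at h
    simp [Nat.ModEq, Nat.mod_eq_of_lt (show 2 < p by omega)] at h
  obtain ⟨x, hx⟩ := hfix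
  have hP1 : (P : Subgroup M) = ⊥ := by
    rw [eq_bot_iff]
    intro k hk
    rw [Subgroup.mem_bot]
    refine Subtype.ext (Equiv.ext fun y => ?_)
    obtain ⟨m, rfl⟩ := exists_smul_eq M x y
    have := hx ⟨m⁻¹ * k * m, by
      simpa using hPn.conj_mem k hk m⁻¹⟩
    rw [Subgroup.smul_def] at this
    simp only [mul_smul, inv_smul_eq_iff] at this
    exact this
  rw [hP1] at hPc
  simp at hPc
  omega

/-- There are no primitive near-Hall subgroups in the non-trivial case. -/
theorem not_isPreprimitive {π : Set ℕ} {M : Subgroup (Perm α)} (hM : NearHall π M)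
    (hprim : IsPreprimitive M α)
    (htwo : ∃ r s : ℕ, r.Prime ∧ s.Prime ∧ r ≠ s ∧ r ∈ π ∧ s ∈ π ∧ r ≤ Fintype.card α ∧
      s ≤ Fintype.card α)
    (hmiss : ∃ r : ℕ, r.Prime ∧ r ≤ Fintype.card α ∧ r ∉ π) : False := by
  classical
  obtain ⟨r0, hr0, hr0n, hr0π⟩ := hmiss
  obtain ⟨r, s, hr, hs, hrs, hrπ, hsπ, hrn, hsn⟩ := htwo
  have hn : 5 ≤ Fintype.card α := by
    by_contra hlt
    have h4 : ∀ t : ℕ, t.Prime → t ≤ Fintype.card α → t = 2 ∨ t = 3 := fun t ht htn => by
      have h4 : t ≤ 4 := by omega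
      have := ht.two_le
      rcases (by omega : t = 2 ∨ t = 3 ∨ t = 4) with rfl | rfl | rfl
      · exact Or.inl rfl
      · exact Or.inr rfl
      · exact absurd ht (by decide)
    have e0 := h4 r0 hr0 hr0n
    have e1 := h4 r hr hrn
    have e2 := h4 s hs hsn
    have a1 : r0 ≠ r := fun h => hr0π (h ▸ hrπ)
    have a2 : r0 ≠ s := fun h => hr0π (h ▸ hsπ)
    omega
  have hodd : ∀ p : ℕ, p.Prime → p ∈ π → p ≠ 2 → p ≤ Fintype.card α →
      Fintype.card α ≤ p + 2 := by
    intro p hp hpπ hp2 hpn
    by_contra hlt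
    obtain ⟨g, hg, hgc, hgs⟩ := exists_cycle_mem hM hp hpπ hp2 hpn
    exact hr0π (alternating_all hM (Cfsg.Lib.Fusion.alternatingGroup_le_of_prime_cycle hprim hp
      (by omega) hgc hgs hg) (by omega) r0 hr0 hr0n)
  have : Nonempty α := Fintype.card_pos_iff.1 (by omega)
  have hnM : Fintype.card α ∣ Nat.card M := by
    obtain ⟨x⟩ := (inferInstance : Nonempty α)
    rw [← Nat.card_eq_fintype_card, ← index_stabilizer_of_transitive M x]
    exact Subgroup.index_dvd_card _
  by_cases h2π : 2 ∈ π
  · obtain ⟨t, htc, ht⟩ := exists_hasKlein hM h2π (by omega)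
    have h3π : 3 ∈ π := by
      refine hM.1 3 Nat.prime_three ?_
      have hnb : ¬ IsBlock M (t : Set α) := fun hb => by
        rcases hprim.isTrivialBlock_of_isBlock hb with hs1 | hu
        · have := Finset.card_le_one.2 fun a ha b hb => hs1 ha hb
          omega
        · rw [Finset.coe_eq_univ] at hu
          rw [hu, Finset.card_univ] at htc
          omega
      rw [isBlock_iff_smul_eq_or_disjoint] at hnb
      push_neg at hnb
      obtain ⟨g, hg1, hg2⟩ := hnb
      have hcoe : g • (t : Set α) = ((t.image (g : Perm α) : Finset α) : Set α) := by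
        rw [Finset.coe_image, ← Set.image_smul]; rfl
      rw [hcoe] at hg1 hg2
      rw [Finset.disjoint_coe, Finset.disjoint_iff_inter_eq_empty] at hg2
      exact three_dvd_of_overlap (ht.conj g.2) ht
        (by rw [Finset.card_image_of_injective _ (Equiv.injective _), htc]) htc
        (Finset.nonempty_iff_ne_empty.2 hg2) fun h => hg1 (by rw [h])
    have h5 : Fintype.card α = 5 := by
      have := hodd 3 Nat.prime_three h3π (by norm_num) (by omega); omega
    have h5π : 5 ∈ π := hM.1 5 (by norm_num) (h5 ▸ hnM)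
    have : r0 ≤ 5 := by omega
    interval_cases r0 <;> first | contradiction | exact absurd hr0 (by decide)
  · have hne : ∀ t : ℕ, t ∈ π → t ≠ 2 := fun t ht h => h2π (h ▸ ht)
    have hP : ∀ (p q : ℕ), p.Prime → q.Prime → p ∈ π → q ∈ π → p < q →
        q ≤ Fintype.card α → False := by
      intro p q hp hq hpπ hqπ hpq hqn
      have h1 := hodd p hp hpπ (hne p hpπ) (by omega)
      have := Nat.odd_iff.1 (hp.odd_of_ne_two (hne p hpπ))
      have := Nat.odd_iff.1 (hq.odd_of_ne_two (hne q hqπ))
      refine not_two_odd_primes hM hprim.toIsPretransitive hp hq hpπ hqπ (hne p hpπ) (hne q hqπ)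
        hpq hqn h1 fun t ht htπ htn => ?_
      have := hodd t ht htπ (hne t htπ) htn
      have := Nat.odd_iff.1 (ht.odd_of_ne_two (hne t htπ))
      omega
    rcases lt_or_gt_of_ne hrs with h | h
    · exact hP r s hr hs hrπ hsπ h hsn
    · exact hP s r hs hr hsπ hrπ h hrn

end Cfsg.Lib.HallSym
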