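import Cfsg.Agent.Lib.Perm.HallSym.Struct
import Cfsg.Agent.Lib.Perm.HallSym.Dom

/-!
# The exceptional Hall subgroups of symmetric and alternating groups
-/

set_option autoImplicit false

namespace Cfsg.Lib.HallSym

open Equiv Equiv.Perm

universe u

variable {α : Type u} [Fintype α] [DecidableEq α]

/-- `π` has at most one prime, or all primes, or is exceptional-or-empty among degrees `≤ n`. -/
def Easy (π : Set ℕ) (n : ℕ) : Prop :=
  (∀ r s : ℕ, r.Prime → s.Prime → r ∈ π → s ∈ π → r ≤ n → s ≤ n → r = s) ∨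
    ∀ r : ℕ, r.Prime → r ≤ n → r ∈ π

theorem not_easy {π : Set ℕ} {n : ℕ} (h : ¬ Easy π n) :
    (∃ r s : ℕ, r.Prime ∧ s.Prime ∧ r ≠ s ∧ r ∈ π ∧ s ∈ π ∧ r ≤ n ∧ s ≤ n) ∧
      ∃ r : ℕ, r.Prime ∧ r ≤ n ∧ r ∉ π := by
  rw [Easy, not_or] at h
  push_neg at h
  obtain ⟨⟨r, s, hr, hs, hrπ, hsπ, hrn, hsn, hne⟩, r0, hr0, hr0n, hr0π⟩ := h
  exact ⟨⟨r, s, hr, hs, hne, hrπ, hsπ, hrn, hsn⟩, r0, hr0, hr0n, hr0π⟩

theorem prime_le_of_dvd_perm {K : Subgroup (Perm α)} {p : ℕ} (hp : p.Prime)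
    (h : p ∣ Nat.card K) : p ≤ Fintype.card α := by
  refine hp.dvd_factorial.1 (h.trans ?_)
  rw [← Fintype.card_perm, ← Nat.card_eq_fintype_card]
  exact K.card_subgroup_dvd_card

theorem dominated_perm {π : Set ℕ} (h : Easy π (Fintype.card α)) : Dominated π (Perm α) := by
  have hle : ∀ p : ℕ, p.Prime → p ∣ Nat.card (Perm α) → p ≤ Fintype.card α := fun p hp hd =>
    prime_le_of_dvd_perm hp (K := ⊤) (by rwa [Subgroup.card_top])
  rcases h with h | h
  · exact dominated_of_subsingleton fun p q hp hq hpπ hqπ hpd hqd =>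
      h p q hp hq hpπ hqπ (hle p hp hpd) (hle q hq hqd)
  · exact dominated_of_all fun p hp hd => h p hp (hle p hp hd)

theorem dominated_alternating {π : Set ℕ} (h : Easy π (Fintype.card α)) :
    Dominated π (alternatingGroup α) := by
  have hle : ∀ p : ℕ, p.Prime → p ∣ Nat.card (alternatingGroup α) → p ≤ Fintype.card α :=
    fun p hp hd => prime_le_of_dvd_perm hp hd
  rcases h with h | h
  · exact dominated_of_subsingleton fun p q hp hq hpπ hqπ hpd hqd =>
      h p q hp hq hpπ hqπ (hle p hp hpd) (hle q hq hqd)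
  · exact dominated_of_all fun p hp hd => h p hp (hle p hp hd)

/-- The exceptional Hall subgroups themselves. -/
def IsStd (π : Set ℕ) (St : Subgroup (Perm α)) : Prop :=
  ((Fintype.card α).Prime ∧
      (∀ r : ℕ, r.Prime → r ≤ Fintype.card α → (r ∈ π ↔ r < Fintype.card α)) ∧
      ∃ x : α, St = fiberPerm (ind {x})) ∨
  (Fintype.card α = 7 ∧ TwoThree π ∧ ∃ s : Finset α, s.card = 3 ∧ St = fiberPerm (ind s)) ∨
  (Fintype.card α = 8 ∧ TwoThree π ∧ ∃ s : Finset α, s.card = 4 ∧ St = pairPerm s)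

theorem Exc.exists_std {π : Set ℕ} {M : Subgroup (Perm α)} (h : Exc π M) :
    ∃ St, IsStd π St ∧ M ≤ St := by
  rcases h with ⟨hn, hP, x, hx⟩ | ⟨hn, hP, s, hs, hx⟩ | ⟨hn, hP, s, hs, hx⟩
  · exact ⟨_, Or.inl ⟨hn, hP, x, rfl⟩, hx⟩
  · exact ⟨_, Or.inr (Or.inl ⟨hn, hP, s, hs, rfl⟩), hx⟩
  · exact ⟨_, Or.inr (Or.inr ⟨hn, hP, s, hs, rfl⟩), hx⟩

theorem exists_std_of_excPi {π : Set ℕ} (h : ExcPi π (Fintype.card α)) :
    ∃ St : Subgroup (Perm α), IsStd π St := by
  rcases h with ⟨hn, hP⟩ | ⟨hn | hn, hP⟩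
  · obtain ⟨x⟩ := Fintype.card_pos_iff.1 hn.pos
    exact ⟨_, Or.inl ⟨hn, hP, x, rfl⟩⟩
  · obtain ⟨s, -, hs⟩ :=
      Finset.exists_subset_card_eq (s := (Finset.univ : Finset α)) (n := 3) (by simp; omega)
    exact ⟨_, Or.inr (Or.inl ⟨hn, hP, s, hs, rfl⟩)⟩
  · obtain ⟨s, -, hs⟩ :=
      Finset.exists_subset_card_eq (s := (Finset.univ : Finset α)) (n := 4) (by simp; omega)
    exact ⟨_, Or.inr (Or.inr ⟨hn, hP, s, hs, rfl⟩)⟩

theorem exists_maps_to {s t : Finset α} (h : s.card = t.card) :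
    ∃ g : Perm α, s.image g = t := by
  let e : {x // x ∈ s} ≃ {x // x ∈ t} := Fintype.equivOfCardEq (by simpa using h)
  refine ⟨e.extendSubtype, Finset.eq_of_subset_of_card_le (fun y hy => ?_) (by
    rw [Finset.card_image_of_injective _ (Equiv.injective _), h])⟩
  obtain ⟨x, hx, rfl⟩ := Finset.mem_image.1 hy
  exact Equiv.extendSubtype_mem e x hx

theorem mem_pairPerm_iff {s : Finset α} {b : Perm α} (hs : s.Nonempty) :
    b ∈ pairPerm s ↔ (∀ x, b x ∈ s ↔ x ∈ s) ∨ (∀ x, b x ∈ s ↔ x ∉ s) := by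
  obtain ⟨x0, hx0⟩ := hs
  constructor
  · intro h
    by_cases h0 : b x0 ∈ s
    · refine Or.inl fun x => ?_
      have := h x x0
      tauto
    · refine Or.inr fun x => ?_
      have := h x x0
      tauto
  · rintro (h | h) x y
    · rw [h x, h y]
    · rw [h x, h y]; tauto

theorem card_pairPerm {s : Finset α} (h : 2 * s.card = Fintype.card α) (hs : s.Nonempty) :
    Nat.card (pairPerm s) = 2 * Nat.card (fiberPerm (ind s)) := by
  have hle : fiberPerm (ind s) ≤ pairPerm s := fun b hb => (mem_pairPerm_iff hs).2 (Or.inl fun x => by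
    simpa [ind] using hb x)
  obtain ⟨τ, hτ⟩ := exists_maps_to (s := s) (t := sᶜ) (by rw [Finset.card_compl]; omega)
  have hτ' : ∀ x, τ x ∈ s ↔ x ∉ s := by
    intro x
    have : τ x ∈ s.image τ ↔ x ∈ s := Function.Injective.mem_finset_image τ.injective
    rw [hτ, Finset.mem_compl] at this
    tauto
  have hmem : ∀ b : Perm α, b ∈ fiberPerm (ind s) ↔ ∀ x, b x ∈ s ↔ x ∈ s := fun b => by
    simp [mem_fiberPerm, ind]
  obtain ⟨x0, hx0⟩ := id hs
  have hidx : ((fiberPerm (ind s)).subgroupOf (pairPerm s)).index = 2 := by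
    refine Subgroup.index_eq_two_iff.2 ⟨⟨τ, (mem_pairPerm_iff hs).2 (Or.inr hτ')⟩, fun b => ?_⟩
    simp only [Subgroup.mem_subgroupOf, hmem, Subgroup.coe_mul, Perm.mul_apply]
    rcases (mem_pairPerm_iff hs).1 b.2 with hb | hb
    · refine Or.inr ⟨hb, fun h => ?_⟩
      have := h x0
      rw [hb, hτ'] at this
      tauto
    · refine Or.inl ⟨fun x => ?_, fun h => ?_⟩
      · rw [hb, hτ', not_not]
      · have := h x0
        rw [hb] at this
        tauto
  rw [← ((fiberPerm (ind s)).subgroupOf (pairPerm s)).card_mul_index, hidx,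
    Nat.card_congr (Subgroup.subgroupOfEquivOfLe hle).toEquiv, mul_comm]

theorem IsStd.isPiHall {π : Set ℕ} {St : Subgroup (Perm α)} (h : IsStd π St) :
    IsPiHall π St := by
  have hfin : ∀ (m i : ℕ), Nat.card St = m → m * i = (Fintype.card α).factorial →
      (∀ p, p.Prime → p ∣ m → p ∈ π) → (∀ p, p.Prime → p ∈ π → ¬ p ∣ i) → IsPiHall π St := by
    intro m i hm hmi h1 h2
    have e : St.index = i := by
      have := St.card_mul_index
      rw [hm, Nat.card_perm, Nat.card_eq_fintype_card, ← hmi] at this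
      exact Nat.eq_of_mul_eq_mul_left (hm ▸ Nat.card_pos) this
    exact ⟨fun p hp hd => h1 p hp (hm ▸ hd), fun p hp hpπ => e ▸ h2 p hp hpπ⟩
  rcases h with ⟨hn, hP, x, rfl⟩ | ⟨hn, ⟨h2, h3, h5, h7⟩, s, hs, rfl⟩ | ⟨hn, ⟨h2, h3, h5, h7⟩, s, hs, rfl⟩
  · refine hfin (Fintype.card α - 1).factorial (Fintype.card α)
      (by rw [card_fiberPerm_ind]; simp) (by rw [mul_comm, Nat.mul_factorial_pred hn.ne_zero])
      (fun p hp hd => ?_) (fun p hp hpπ hd => ?_)
    · have := hp.dvd_factorial.1 hd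
      have := hn.pos
      exact (hP p hp (by omega)).2 (by omega)
    · obtain rfl := (Nat.prime_dvd_prime_iff_eq hp hn).1 hd
      exact lt_irrefl _ ((hP _ hn le_rfl).1 hpπ)
  · refine hfin 144 35 (by rw [card_fiberPerm_ind, hs, hn]; rfl) (by rw [hn]; rfl)
      (fun p hp hd => ?_) (fun p hp hpπ hd => ?_)
    · rcases hp.dvd_mul.1 (show p ∣ 2 ^ 4 * 3 ^ 2 from hd) with h | h
      · rwa [(Nat.prime_dvd_prime_iff_eq hp Nat.prime_two).1 (hp.dvd_of_dvd_pow h)]
      · rwa [(Nat.prime_dvd_prime_iff_eq hp Nat.prime_three).1 (hp.dvd_of_dvd_pow h)]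
    · rcases hp.dvd_mul.1 (show p ∣ 5 * 7 from hd) with h | h
      · exact h5 ((Nat.prime_dvd_prime_iff_eq hp (by norm_num)).1 h ▸ hpπ)
      · exact h7 ((Nat.prime_dvd_prime_iff_eq hp (by norm_num)).1 h ▸ hpπ)
  · refine hfin 1152 35 (by
        rw [card_pairPerm (by omega) (Finset.card_pos.1 (by omega)), card_fiberPerm_ind, hs, hn]
        rfl) (by rw [hn]; rfl) (fun p hp hd => ?_) (fun p hp hpπ hd => ?_)
    · rcases hp.dvd_mul.1 (show p ∣ 2 ^ 7 * 3 ^ 2 from hd) with h | h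
      · rwa [(Nat.prime_dvd_prime_iff_eq hp Nat.prime_two).1 (hp.dvd_of_dvd_pow h)]
      · rwa [(Nat.prime_dvd_prime_iff_eq hp Nat.prime_three).1 (hp.dvd_of_dvd_pow h)]
    · rcases hp.dvd_mul.1 (show p ∣ 5 * 7 from hd) with h | h
      · exact h5 ((Nat.prime_dvd_prime_iff_eq hp (by norm_num)).1 h ▸ hpπ)
      · exact h7 ((Nat.prime_dvd_prime_iff_eq hp (by norm_num)).1 h ▸ hpπ)

theorem mem_conj_iff {G : Type*} [Group G] {H : Subgroup G} {g h : G} :
    h ∈ H.map (MulAut.conj g).toMonoidHom ↔ g⁻¹ * h * g ∈ H := by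
  rw [Subgroup.mem_map_equiv]
  rfl

theorem fiberPerm_conj (s : Finset α) (g : Perm α) :
    (fiberPerm (ind s)).map (MulAut.conj g).toMonoidHom = fiberPerm (ind (s.image g)) := by
  have hmem : ∀ (t : Finset α) (b : Perm α),
      b ∈ fiberPerm (ind t) ↔ ∀ x, b x ∈ t ↔ x ∈ t := fun t b => by simp [mem_fiberPerm, ind]
  ext h
  rw [mem_conj_iff, hmem, hmem]
  simp only [Perm.mul_apply]
  constructor
  · intro H x
    have := H (g⁻¹ x)
    rw [Perm.coe_inv, Equiv.apply_symm_apply] at this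
    simpa [Finset.mem_image, ← Equiv.eq_symm_apply] using this
  · intro H x
    have := H (g x)
    simpa [Finset.mem_image, ← Equiv.eq_symm_apply] using this

theorem pairPerm_conj (s : Finset α) (g : Perm α) :
    (pairPerm s).map (MulAut.conj g).toMonoidHom = pairPerm (s.image g) := by
  ext h
  rw [mem_conj_iff]
  show (∀ x y, _) ↔ (∀ x y, _)
  simp only [Perm.mul_apply]
  constructor
  · intro H x y
    have := H (g⁻¹ x) (g⁻¹ y)
    simpa [Finset.mem_image, ← Equiv.eq_symm_apply] using this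
  · intro H x y
    have := H (g x) (g y)
    simpa [Finset.mem_image, ← Equiv.eq_symm_apply] using this

theorem IsStd.conj {π : Set ℕ} {St : Subgroup (Perm α)} (h : IsStd π St) (g : Perm α) :
    IsStd π (St.map (MulAut.conj g).toMonoidHom) := by
  rcases h with ⟨hn, hP, x, rfl⟩ | ⟨hn, hP, s, hs, rfl⟩ | ⟨hn, hP, s, hs, rfl⟩
  · exact Or.inl ⟨hn, hP, g x, by rw [fiberPerm_conj, Finset.image_singleton]⟩
  · exact Or.inr (Or.inl ⟨hn, hP, s.image g,
      by rw [Finset.card_image_of_injective _ g.injective, hs], fiberPerm_conj s g⟩)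
  · exact Or.inr (Or.inr ⟨hn, hP, s.image g,
      by rw [Finset.card_image_of_injective _ g.injective, hs], pairPerm_conj s g⟩)

theorem exists_even_maps_to {s t : Finset α} (h : s.card = t.card) (hn : 3 ≤ Fintype.card α) :
    ∃ g : Perm α, sign g = 1 ∧ s.image g = t := by
  obtain ⟨g, hg⟩ := exists_maps_to h
  rcases Int.units_eq_one_or (sign g) with hs | hs
  · exact ⟨g, hs, hg⟩
  obtain ⟨x, y, hxy, hside⟩ : ∃ x y : α, x ≠ y ∧ (x ∈ s ↔ y ∈ s) := by
    by_cases h2 : 1 < s.card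
    · obtain ⟨x, hx, y, hy, hxy⟩ := Finset.one_lt_card.1 h2
      exact ⟨x, y, hxy, by simp [hx, hy]⟩
    · obtain ⟨x, hx, y, hy, hxy⟩ := Finset.one_lt_card.1
        (by rw [Finset.card_compl]; omega : 1 < sᶜ.card)
      rw [Finset.mem_compl] at hx hy
      exact ⟨x, y, hxy, by simp [hx, hy]⟩
  refine ⟨g * swap x y, by rw [Perm.sign_mul, hs, sign_swap hxy]; rfl, ?_⟩
  have : s.image (swap x y) = s := mem_fiberPerm_ind.1 (swap_mem_fiberPerm (by simp [ind, hside]))
  rw [Perm.coe_mul, ← Finset.image_image, this, hg]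

theorem IsStd.exists_even_conj {π : Set ℕ} {St St' : Subgroup (Perm α)} (h : IsStd π St)
    (h' : IsStd π St') (hn3 : 3 ≤ Fintype.card α) :
    ∃ g : Perm α, sign g = 1 ∧ St' = St.map (MulAut.conj g).toMonoidHom := by
  rcases h with ⟨hn, hP, x, rfl⟩ | ⟨hn, hP, s, hs, rfl⟩ | ⟨hn, hP, s, hs, rfl⟩ <;>
    rcases h' with ⟨hn', hP', x', rfl⟩ | ⟨hn', hP', s', hs', rfl⟩ | ⟨hn', hP', s', hs', rfl⟩
  · obtain ⟨g, hg1, hg2⟩ := exists_even_maps_to (s := {x}) (t := {x'}) (by simp) hn3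
    exact ⟨g, hg1, by rw [fiberPerm_conj, hg2]⟩
  · exact absurd ((hP 5 (by norm_num) (by omega)).2 (by omega)) hP'.2.2.1
  · rw [hn'] at hn; exact absurd hn (by decide)
  · exact absurd ((hP' 5 (by norm_num) (by omega)).2 (by omega)) hP.2.2.1
  · obtain ⟨g, hg1, hg2⟩ := exists_even_maps_to (hs.trans hs'.symm) hn3
    exact ⟨g, hg1, by rw [fiberPerm_conj, hg2]⟩
  · omega
  · rw [hn] at hn'; exact absurd hn' (by decide)
  · omega
  · obtain ⟨g, hg1, hg2⟩ := exists_even_maps_to (hs.trans hs'.symm) hn3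
    exact ⟨g, hg1, by rw [pairPerm_conj, hg2]⟩

theorem card_ge_three {π : Set ℕ} {n : ℕ} (h : ¬ Easy π n) : 3 ≤ n := by
  obtain ⟨⟨r, s, hr, hs, hne, -, -, hrn, hsn⟩, -⟩ := not_easy h
  have := hr.two_le
  have := hs.two_le
  omega

theorem exc_of_not_easy {π : Set ℕ} {M : Subgroup (Perm α)} (h : ¬ Easy π (Fintype.card α))
    (hM : NearHall π M) : ∃ St, IsStd π St ∧ M ≤ St :=
  (exc_of_nearHall _ α le_rfl M hM (not_easy h).1 (not_easy h).2).exists_std

theorem index_alternating_dvd_two : (alternatingGroup α).index ∣ 2 := by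
  show (sign : Perm α →* ℤˣ).ker.index ∣ 2
  rw [Subgroup.index_ker]
  exact (Subgroup.card_subgroup_dvd_card _).trans (by simp)

theorem isPiHall_alternating {π : Set ℕ} {H : Subgroup (Perm α)} (h : IsPiHall π H) :
    IsPiHall π (H.subgroupOf (alternatingGroup α)) :=
  isPiHall_subgroupOf_two index_alternating_dvd_two h

theorem eq_of_le_std {π : Set ℕ} {M : Subgroup (alternatingGroup α)} (hM : IsPiHall π M)
    {H : Subgroup (Perm α)} (hH : IsPiHall π H) (hle : M.map (alternatingGroup α).subtype ≤ H) :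
    M = H.subgroupOf (alternatingGroup α) := by
  refine eq_of_hall_le hM (isPiHall_alternating hH).1 fun x hx => ?_
  exact hle (Subgroup.mem_map_of_mem _ hx)

theorem subgroupOf_conj {H : Subgroup (Perm α)} {g : Perm α} (hg : sign g = 1) :
    (H.map (MulAut.conj g).toMonoidHom).subgroupOf (alternatingGroup α) =
      (H.subgroupOf (alternatingGroup α)).map
        (MulAut.conj (⟨g, mem_alternatingGroup.2 hg⟩ : alternatingGroup α)).toMonoidHom := by
  ext x
  rw [mem_conj_iff, Subgroup.mem_subgroupOf, mem_conj_iff, Subgroup.mem_subgroupOf]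
  rfl

theorem isCPiGroup_perm {π : Set ℕ} (h : IsEPiGroup π (Perm α)) : IsCPiGroup π (Perm α) := by
  by_cases he : Easy π (Fintype.card α)
  · exact (dominated_perm he).isCPiGroup
  refine ⟨h, fun H K hH hK => ?_⟩
  obtain ⟨A, hA, hHA⟩ := exc_of_not_easy he (nearHall_of_isPiHall hH)
  obtain ⟨B, hB, hKB⟩ := exc_of_not_easy he (nearHall_of_isPiHall hK)
  obtain rfl := eq_of_hall_le hH hA.isPiHall.1 hHA
  obtain rfl := eq_of_hall_le hK hB.isPiHall.1 hKB
  obtain ⟨g, -, hg⟩ := hA.exists_even_conj hB (card_ge_three he)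
  exact ⟨g, hg⟩

theorem isEPiGroup_alternating {π : Set ℕ} (h : IsEPiGroup π (Perm α)) :
    IsEPiGroup π (alternatingGroup α) :=
  h.elim fun H hH => ⟨_, isPiHall_alternating hH⟩

theorem exists_std_of_alternating {π : Set ℕ} (he : ¬ Easy π (Fintype.card α))
    {M : Subgroup (alternatingGroup α)} (hM : IsPiHall π M) :
    ∃ St, IsStd π St ∧ M = St.subgroupOf (alternatingGroup α) := by
  have : Nontrivial α := Fintype.one_lt_card_iff_nontrivial.1 (by have := card_ge_three he; omega)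
  obtain ⟨St, hSt, hle⟩ := exc_of_not_easy he (nearHall_map_of_isPiHall hM)
  exact ⟨St, hSt, eq_of_le_std hM hSt.isPiHall hle⟩

theorem isEPiGroup_perm {π : Set ℕ} (h : IsEPiGroup π (alternatingGroup α)) :
    IsEPiGroup π (Perm α) := by
  by_cases he : Easy π (Fintype.card α)
  · exact (dominated_perm he).isCPiGroup.1
  obtain ⟨M, hM⟩ := h
  obtain ⟨St, hSt, -⟩ := exists_std_of_alternating he hM
  exact ⟨St, hSt.isPiHall⟩

theorem isCPiGroup_alternating {π : Set ℕ} (h : IsEPiGroup π (alternatingGroup α)) :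
    IsCPiGroup π (alternatingGroup α) := by
  by_cases he : Easy π (Fintype.card α)
  · exact (dominated_alternating he).isCPiGroup
  refine ⟨h, fun H K hH hK => ?_⟩
  obtain ⟨A, hA, rfl⟩ := exists_std_of_alternating he hH
  obtain ⟨B, hB, rfl⟩ := exists_std_of_alternating he hK
  obtain ⟨g, hg1, rfl⟩ := hA.exists_even_conj hB (card_ge_three he)
  exact ⟨_, subgroupOf_conj hg1⟩

theorem isPiHall_alternating_iff {π : Set ℕ} (M : Subgroup (alternatingGroup α)) :
    IsPiHall π M ↔ ∃ M₀ : Subgroup (Perm α),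
      IsPiHall π M₀ ∧ M = M₀.subgroupOf (alternatingGroup α) := by
  refine ⟨fun hM => ?_, fun ⟨M₀, h, e⟩ => e ▸ isPiHall_alternating h⟩
  by_cases he : Easy π (Fintype.card α)
  · obtain ⟨H, hH, hle⟩ := (dominated_perm he).exists_hall_ge
      (K := M.map (alternatingGroup α).subtype) fun p hp hd =>
        hM.1 p hp (hd.trans (M.card_map_dvd _))
    exact ⟨H, hH, eq_of_le_std hM hH hle⟩
  · obtain ⟨St, hSt, e⟩ := exists_std_of_alternating he hM
    exact ⟨St, hSt.isPiHall, e⟩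

end Cfsg.Lib.HallSym
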