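import Cfsg.Agent.Lib.Perm.HallSym.Arith
import Cfsg.Agent.Lib.Perm.HallSym.Primitive

/-!
# Structure of near-Hall subgroups of symmetric groups (P. Hall, Thompson)

If `π` contains two primes `≤ n` and misses one, a near-Hall `π`-subgroup of degree `n` fixes a
point (`n` prime, `π` the primes below `n`), a set of three points (`n = 7`), or a partition into
two sets of four points (`n = 8`), with `π` meeting the primes `≤ n` in `{2, 3}` in the last two.
-/

set_option autoImplicit false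

namespace Cfsg.Lib.HallSym

open Equiv Equiv.Perm MulAction
open scoped Pointwise

universe u

variable {α : Type u} [Fintype α] [DecidableEq α]

/-- The permutations preserving the partition `{s, sᶜ}`. -/
def pairPerm (s : Finset α) : Subgroup (Perm α) where
  carrier := {g | ∀ x y, ((g x ∈ s) ↔ (g y ∈ s)) ↔ ((x ∈ s) ↔ (y ∈ s))}
  mul_mem' {a b} ha hb x y := by
    rw [Perm.mul_apply, Perm.mul_apply]
    exact (ha (b x) (b y)).trans (hb x y)
  one_mem' _ _ := Iff.rfl
  inv_mem' {a} ha x y := by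
    have := ha (a⁻¹ x) (a⁻¹ y)
    rw [Perm.coe_inv, Equiv.apply_symm_apply, Equiv.apply_symm_apply] at this
    exact this.symm

/-- `π` meets `{2, 3, 5, 7}` in `{2, 3}`. -/
def TwoThree (π : Set ℕ) : Prop :=
  2 ∈ π ∧ 3 ∈ π ∧ 5 ∉ π ∧ 7 ∉ π

/-- The exceptional pairs `(n, π)`. -/
def ExcPi (π : Set ℕ) (n : ℕ) : Prop :=
  (n.Prime ∧ ∀ r : ℕ, r.Prime → r ≤ n → (r ∈ π ↔ r < n)) ∨ ((n = 7 ∨ n = 8) ∧ TwoThree π)

/-- The exceptional near-Hall subgroups. -/
def Exc (π : Set ℕ) (M : Subgroup (Perm α)) : Prop :=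
  ((Fintype.card α).Prime ∧
      (∀ r : ℕ, r.Prime → r ≤ Fintype.card α → (r ∈ π ↔ r < Fintype.card α)) ∧
      ∃ x : α, M ≤ fiberPerm (ind {x})) ∨
  (Fintype.card α = 7 ∧ TwoThree π ∧ ∃ s : Finset α, s.card = 3 ∧ M ≤ fiberPerm (ind s)) ∨
  (Fintype.card α = 8 ∧ TwoThree π ∧ ∃ s : Finset α, s.card = 4 ∧ M ≤ pairPerm s)

theorem Exc.excPi {π : Set ℕ} {M : Subgroup (Perm α)} (h : Exc π M) :
    ExcPi π (Fintype.card α) := by
  rcases h with ⟨hn, hP, -⟩ | ⟨hn, hP, -⟩ | ⟨hn, hP, -⟩
  · exact Or.inl ⟨hn, hP⟩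
  · exact Or.inr ⟨Or.inl hn, hP⟩
  · exact Or.inr ⟨Or.inr hn, hP⟩

theorem swap_mem_fiberFix {ι : Type*} [DecidableEq ι] {f : α → ι} {i : ι} {x y : α}
    (h : f x = f y) (hx : f x ≠ i) : swap x y ∈ fiberFix f i := by
  refine swap_mem_fiberPerm ?_
  rw [if_neg hx, if_neg (h ▸ hx), h]

/-- A near-Hall subgroup with one fixed point is near-Hall on the other points. -/
theorem nearHall_fiberImage_point {π : Set ℕ} {M : Subgroup (Perm α)} (hM : NearHall π M)
    {x : α} (hMx : M ≤ fiberPerm (ind {x})) :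
    NearHall π ((M.subgroupOf (fiberPerm (ind {x}))).map (fiberRes (ind {x}) false)) := by
  classical
  set f := ind ({x} : Finset α) with hf
  set M' := M.subgroupOf (fiberPerm f) with hM'
  have hfx : ∀ y : α, f y = false ↔ y ≠ x := fun y => by simp [hf, ind]
  have hinj : Function.Injective ((fiberRes f false).comp M'.subtype) := by
    rw [← MonoidHom.ker_eq_bot_iff, eq_bot_iff]
    intro g hg
    have hg' : g.1 ∈ (fiberRes f false).ker := hg
    rw [ker_fiberRes, Subgroup.mem_subgroupOf, mem_fiberFix] at hg'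
    rw [Subgroup.mem_bot]
    refine Subtype.ext (Subtype.ext (Equiv.ext fun y => ?_))
    by_cases hy : y = x
    · have h1 := hg'.1 y
      subst hy
      simpa [hf, ind] using h1
    · exact hg'.2 y ((hfx y).2 hy)
  have hc : Nat.card (M'.map (fiberRes f false)) = Nat.card M := by
    rw [show M'.map (fiberRes f false) = ((fiberRes f false).comp M'.subtype).range by
        rw [MonoidHom.range_comp, Subgroup.range_subtype],
      ← Nat.card_congr (MonoidHom.ofInjective hinj).toEquiv]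
    exact Nat.card_congr (Subgroup.subgroupOfEquivOfLe hMx).toEquiv
  have hsign : ∀ g : fiberPerm f, sign (fiberRes f false g) = sign (g : Perm α) := fun g => by
    show sign ((g : Perm α).subtypePerm (p := fun y => f y = false)
      (fun y => by rw [mem_fiberPerm.1 g.2 y])) = _
    refine sign_subtypePerm _ (fun y => by rw [mem_fiberPerm.1 g.2 y]) fun y hy => ?_
    rw [hfx]
    rintro rfl
    have h1 := g.2 y
    exact hy (by simpa [hf, ind] using h1)
  refine ⟨fun p hp hd => hM.1 p hp (hc ▸ hd), fun p hp hpπ => ?_⟩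
  have ho : oddFactor M ∣ oddFactor (M'.map (fiberRes f false)) := by
    unfold oddFactor
    split_ifs with h1 h2 h2
    · exact dvd_rfl
    · refine absurd ?_ h2
      rintro _ ⟨g, hg, rfl⟩
      rw [mem_alternatingGroup, hsign]
      exact mem_alternatingGroup.1 (h1 hg)
    · exact one_dvd 2
    · exact dvd_rfl
  have h1 := (hM.2 p hp hpπ).trans (factorization_le_of_dvd
    (mul_ne_zero Nat.card_pos.ne' (oddFactor_ne_zero M))
    (mul_ne_zero Nat.card_pos.ne' (oddFactor_ne_zero _))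
    (mul_dvd_mul_left (Nat.card M) ho))
  rw [hc]
  refine le_trans (factorization_le_of_dvd (Nat.factorial_ne_zero _) (Nat.factorial_ne_zero _)
    (Nat.factorial_dvd_factorial (Fintype.card_subtype_le _))) h1

/-- The intransitive case. -/
theorem exc_of_invariant {π : Set ℕ}
    (ih : ∀ (β : Type u) [Fintype β] [DecidableEq β], Fintype.card β < Fintype.card α →
      ∀ N : Subgroup (Perm β), NearHall π N →
      (∃ r s : ℕ, r.Prime ∧ s.Prime ∧ r ≠ s ∧ r ∈ π ∧ s ∈ π ∧ r ≤ Fintype.card β ∧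
        s ≤ Fintype.card β) →
      (∃ r : ℕ, r.Prime ∧ r ≤ Fintype.card β ∧ r ∉ π) → ExcPi π (Fintype.card β))
    {M : Subgroup (Perm α)} (hM : NearHall π M)
    (htwo : ∃ r s : ℕ, r.Prime ∧ s.Prime ∧ r ≠ s ∧ r ∈ π ∧ s ∈ π ∧ r ≤ Fintype.card α ∧
      s ≤ Fintype.card α)
    {s : Finset α} (hs0 : 1 ≤ s.card) (hs2 : 2 * s.card ≤ Fintype.card α)
    (hMs : M ≤ fiberPerm (ind s)) : Exc π M := by
  classical
  obtain ⟨a, hn⟩ : ∃ a, Fintype.card α = a + s.card := ⟨Fintype.card α - s.card, by omega⟩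
  obtain ⟨r1, r2, hr1, hr2, hr12, hr1π, hr2π, hr1n, hr2n⟩ := htwo
  have hn3 : 3 ≤ Fintype.card α := by
    have := hr1.two_le
    have := hr2.two_le
    omega
  have ha2 : 2 ≤ a := by omega
  have hcF : Fintype.card {x // ind s x = false} = a := by rw [card_ind_false]; omega
  obtain ⟨⟨x, hx⟩, ⟨y, hy⟩, hxy⟩ :=
    Fintype.one_lt_card_iff.1 (by omega : 1 < Fintype.card {x // ind s x = false})
  have hodd : ∃ g ∈ fiberPerm (ind s), sign g = -1 :=
    exists_odd_of_two (fun e => hxy (Subtype.ext e)) (swap_mem_fiberPerm (hx.trans hy.symm))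
  have hC : ∀ p : ℕ, p.Prime → p ∈ π → ¬ p ∣ (a + s.card).choose s.card := fun p hp hpπ => by
    rw [← hn]; exact hM.not_dvd_choose hMs hodd hp hpπ
  have hPa : ∀ p : ℕ, p.Prime → p ∈ π → p ≤ Fintype.card α → p ≤ a := by
    intro p hp hpπ hpn
    by_contra hlt
    exact hC p hp hpπ (hp.dvd_choose (by omega) (by omega) (by omega))
  set I := (M.subgroupOf (fiberPerm (ind s))).map (fiberRes (ind s) false) with hI
  have hNI : NearHall π I := by
    by_cases hs1 : s.card = 1
    · obtain ⟨z, rfl⟩ := Finset.card_eq_one.1 hs1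
      exact nearHall_fiberImage_point hM hMs
    · obtain ⟨z, hz, w, hw, hzw⟩ := Finset.one_lt_card.1 (by omega : 1 < s.card)
      refine nearHall_of_isPiHall (isPiHall_fiberImage false hMs hM.1 (fun p hp hpπ => ?_)
        (exists_odd_of_two hzw (swap_mem_fiberFix (by simp [ind, hz, hw]) (by simp [ind, hz]))))
      refine (factorization_le_of_dvd Nat.card_pos.ne' (Nat.factorial_ne_zero _) ?_).trans
        (hM.2 p hp hpπ)
      rw [← Fintype.card_perm, ← Nat.card_eq_fintype_card]
      exact Subgroup.card_subgroup_dvd_card _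
  have hcomp : ∀ (_ : ∀ p : ℕ, p.Prime → p ∣ a + 1 → p ∈ π), False := fun h =>
    succ_not_coprime (a := a) hs0 (by omega) fun p hp hd => hC p hp (h p hp hd)
  by_cases hall : ∀ p : ℕ, p.Prime → p ≤ a → p ∈ π
  · have hap : (a + 1).Prime := by
      by_contra hnp
      refine hcomp fun p hp hd => hall p hp ?_
      have := prime_le_half hnp (by omega) hp hd
      omega
    rcases Nat.lt_or_ge s.card 2 with hs1 | hs1
    · obtain ⟨z, rfl⟩ := Finset.card_eq_one.1 (by omega : s.card = 1)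
      rw [Finset.card_singleton] at hn hC
      refine Or.inl ⟨hn ▸ hap, fun r hr hrn => ⟨fun hrπ => ?_, fun hlt => hall r hr (by omega)⟩,
        z, hMs⟩
      rcases lt_or_eq_of_le hrn with h | h
      · exact h
      · refine absurd ?_ (hC r hr hrπ)
        rw [Nat.choose_one_right, h, hn]
    · obtain ⟨rfl, hb3⟩ := choose_coprime_small hs1 (by omega)
        fun p hp hpa => hC p hp (hall p hp hpa)
      refine Or.inr (Or.inl ⟨by omega, ⟨hall 2 Nat.prime_two (by norm_num),
        hall 3 Nat.prime_three (by norm_num), fun h => ?_, fun h => ?_⟩, s, hb3, hMs⟩)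
      · exact hC 5 (by norm_num) h (by rw [hb3]; decide)
      · exact hC 7 (by norm_num) h (by rw [hb3]; decide)
  · exfalso
    push_neg at hall
    obtain ⟨r0, hr0, hr0a, hr0π⟩ := hall
    have hI' := ih {x // ind s x = false} (by omega) I hNI
      ⟨r1, r2, hr1, hr2, hr12, hr1π, hr2π, by rw [hcF]; exact hPa r1 hr1 hr1π hr1n,
        by rw [hcF]; exact hPa r2 hr2 hr2π hr2n⟩ ⟨r0, hr0, by rw [hcF]; exact hr0a, hr0π⟩
    rw [hcF] at hI'
    refine hcomp fun p hp hd => ?_
    rcases hI' with ⟨hap, hP⟩ | ⟨ha, h2, h3, -, -⟩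
    · have h1 := hPa r1 hr1 hr1π hr1n
      have h2 := hPa r2 hr2 hr2π hr2n
      have h1' := (hP r1 hr1 h1).1 hr1π
      have h2' := (hP r2 hr2 h2).1 hr2π
      have := hr1.two_le
      have := hr2.two_le
      have hao := Nat.odd_iff.1 (hap.odd_of_ne_two (by omega))
      have hle := prime_le_half (m := a + 1) (fun h => by
        have := Nat.odd_iff.1 (h.odd_of_ne_two (by omega)); omega) (by omega) hp hd
      exact (hP p hp (by omega)).2 (by omega)
    · rcases ha with rfl | rfl
      · rwa [(Nat.prime_dvd_prime_iff_eq hp Nat.prime_two).1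
          (hp.dvd_of_dvd_pow (show p ∣ 2 ^ 3 from hd))]
      · rwa [(Nat.prime_dvd_prime_iff_eq hp Nat.prime_three).1
          (hp.dvd_of_dvd_pow (show p ∣ 3 ^ 2 from hd))]

/-- The imprimitive case, in terms of a map onto the block system. -/
theorem exc_of_blocks {π : Set ℕ}
    (ih : ∀ (β : Type u) [Fintype β] [DecidableEq β], Fintype.card β < Fintype.card α →
      ∀ N : Subgroup (Perm β), NearHall π N →
      (∃ r s : ℕ, r.Prime ∧ s.Prime ∧ r ≠ s ∧ r ∈ π ∧ s ∈ π ∧ r ≤ Fintype.card β ∧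
        s ≤ Fintype.card β) →
      (∃ r : ℕ, r.Prime ∧ r ≤ Fintype.card β ∧ r ∉ π) → ExcPi π (Fintype.card β))
    {M : Subgroup (Perm α)} (hM : NearHall π M)
    (htwo : ∃ r s : ℕ, r.Prime ∧ s.Prime ∧ r ≠ s ∧ r ∈ π ∧ s ∈ π ∧ r ≤ Fintype.card α ∧
      s ≤ Fintype.card α)
    (hnM : Fintype.card α ∣ Nat.card M)
    {Q : Type u} [Fintype Q] [DecidableEq Q] (ρ : M →* Perm Q) (f : α → Q) {a : ℕ}
    (hfib : ∀ q, Fintype.card {x // f x = q} = a) (heq : ∀ (g : M) x, f ((g : Perm α) x) = ρ g (f x))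
    (ha : 2 ≤ a) (hb : 2 ≤ Fintype.card Q) : Exc π M := by
  classical
  set b := Fintype.card Q with hbdef
  have hsur : Function.Surjective f := fun q => by
    obtain ⟨x, hx⟩ := Fintype.card_pos_iff.1 (by rw [hfib q]; omega : 0 < Fintype.card {x // f x = q})
    exact ⟨x, hx⟩
  have hn : Fintype.card α = b * a := by
    rw [← Fintype.card_congr (Equiv.sigmaFiberEquiv f), Fintype.card_sigma,
      Finset.sum_congr rfl fun q _ => hfib q, Finset.sum_const, Finset.card_univ, smul_eq_mul]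
  have hcF : Nat.card (fiberPerm f) = a.factorial ^ b := by
    rw [card_fiberPerm, Finset.prod_congr rfl fun q _ => by rw [hfib q], Finset.prod_const,
      Finset.card_univ]
  have hodd : ∀ q : Q, ∃ x y : α, x ≠ y ∧ f x = q ∧ f y = q := fun q => by
    obtain ⟨⟨x, hx⟩, ⟨y, hy⟩, hxy⟩ :=
      Fintype.one_lt_card_iff.1 (by rw [hfib q]; omega : 1 < Fintype.card {x // f x = q})
    exact ⟨x, y, fun e => hxy (Subtype.ext e), hx, hy⟩
  have : Nonempty Q := Fintype.card_pos_iff.1 (by omega)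
  obtain ⟨q0⟩ := (inferInstance : Nonempty Q)
  obtain ⟨q1, hq1⟩ : ∃ q1 : Q, q1 ≠ q0 := Fintype.exists_ne_of_one_lt_card (by omega) q0
  obtain ⟨x0, y0, hxy0, hx0, hy0⟩ := hodd q0
  obtain ⟨x1, y1, hxy1, hx1, hy1⟩ := hodd q1
  have hker : ∀ g : M, g ∈ ρ.ker ↔ (g : Perm α) ∈ fiberPerm f := by
    intro g
    rw [MonoidHom.mem_ker, mem_fiberPerm]
    constructor
    · intro h x; rw [heq, h]; rfl
    · intro h
      ext q
      obtain ⟨x, rfl⟩ := hsur q
      rw [← heq, h]; rfl
  set M₀ := M ⊓ fiberPerm f with hM₀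
  have hk : Nat.card ρ.ker = Nat.card M₀ :=
    Nat.card_congr ⟨fun x => ⟨x.1.1, x.1.2, (hker _).1 x.2⟩,
      fun x => ⟨⟨x.1, x.2.1⟩, (hker _).2 x.2.2⟩, fun _ => rfl, fun _ => rfl⟩
  have hMd : Nat.card M * oddFactor M ∣ b.factorial * (Nat.card M₀ * oddFactor M₀) := by
    rw [← ρ.ker.card_mul_index, Subgroup.index_ker, hk, mul_comm (Nat.card M₀), mul_assoc]
    refine Nat.mul_dvd_mul ?_ (mul_dvd_mul_left _ (oddFactor_mono inf_le_left))
    rw [hbdef, ← Fintype.card_perm, ← Nat.card_eq_fintype_card]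
    exact ρ.range.card_subgroup_dvd_card
  have hMF : Nat.card M₀ * oddFactor M₀ ∣ Nat.card (fiberPerm f) :=
    card_mul_oddFactor_dvd inf_le_right
      (exists_odd_of_two hxy0 (swap_mem_fiberPerm (hx0.trans hy0.symm)))
  have hU0 : Nat.uniformBell b a ≠ 0 := fun h => by
    have := Nat.uniformBell_mul_eq b (n := a) (by omega)
    rw [h, zero_mul, zero_mul] at this
    exact Nat.factorial_ne_zero _ this.symm
  have hv : ∀ p : ℕ, p.Prime → p ∈ π → ¬ p ∣ Nat.uniformBell b a ∧
      (Nat.card (fiberPerm f)).factorization p ≤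
        (Nat.card M₀ * oddFactor M₀).factorization p := by
    intro p hp hpπ
    have h1 := (hM.2 p hp hpπ).trans (factorization_le_of_dvd
      (mul_ne_zero Nat.card_pos.ne' (oddFactor_ne_zero M))
      (mul_ne_zero (Nat.factorial_ne_zero _)
        (mul_ne_zero Nat.card_pos.ne' (oddFactor_ne_zero _))) hMd)
    have h2 := factorization_le_of_dvd (p := p)
      (mul_ne_zero Nat.card_pos.ne' (oddFactor_ne_zero _)) Nat.card_pos.ne' hMF
    rw [hn, ← Nat.uniformBell_mul_eq b (n := a) (by omega), ← hcF,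
      Nat.factorization_mul (mul_ne_zero hU0 Nat.card_pos.ne') (Nat.factorial_ne_zero _),
      Nat.factorization_mul hU0 Nat.card_pos.ne',
      Nat.factorization_mul (Nat.factorial_ne_zero _)
        (mul_ne_zero Nat.card_pos.ne' (oddFactor_ne_zero _))] at h1
    simp only [Finsupp.add_apply] at h1
    refine ⟨fun hd => ?_, by omega⟩
    have := hp.factorization_pos_of_dvd hU0 hd
    omega
  have hpow : ∀ p : ℕ, p.Prime → p ∈ π → p ≤ b → ∃ k, a = p ^ k :=
    fun p hp hpπ hpb => pow_of_not_dvd_uniformBell hp (by omega) hpb (hv p hp hpπ).1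
  have hPa : ∀ p : ℕ, p.Prime → p ∈ π → p ≤ Fintype.card α → p ≤ a := by
    intro p hp hpπ hpn
    by_contra hlt
    rcases le_or_gt p b with hpb | hpb
    · obtain ⟨k, hk⟩ := hpow p hp hpπ hpb
      have hk0 : k ≠ 0 := by rintro rfl; simp at hk; omega
      have := Nat.le_self_pow hk0 p
      omega
    · have hd : p ∣ Nat.uniformBell b a * a.factorial ^ b * b.factorial := by
        rw [Nat.uniformBell_mul_eq b (by omega), ← hn]
        exact hp.dvd_factorial.2 hpn
      rcases hp.dvd_mul.1 hd with h | h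
      · rcases hp.dvd_mul.1 h with h | h
        · exact (hv p hp hpπ).1 h
        · have := hp.dvd_factorial.1 (hp.dvd_of_dvd_pow h); omega
      · have := hp.dvd_factorial.1 h; omega
  have hrP := Nat.minFac_prime (show b ≠ 1 by omega)
  set r := b.minFac with hr
  have hrb : r ≤ b := Nat.minFac_le (by omega)
  have hrπ : r ∈ π := hM.1 r hrP
    ((Nat.minFac_dvd b).trans ((dvd_mul_right b a).trans (hn ▸ hnM)))
  obtain ⟨k, hk⟩ := hpow r hrP hrπ hrb
  have hk0 : k ≠ 0 := by rintro rfl; simp at hk; omega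
  have hra : r ≤ a := hk ▸ Nat.le_self_pow hk0 r
  have huniq : ∀ p : ℕ, p.Prime → p ∈ π → p ≤ b → p = r := by
    intro p hp hpπ hpb
    obtain ⟨j, hj⟩ := hpow p hp hpπ hpb
    have : r ∣ p ^ j := by rw [← hj, hk]; exact dvd_pow_self r hk0
    exact ((Nat.prime_dvd_prime_iff_eq hrP hp).1 (hrP.dvd_of_dvd_pow this)).symm
  obtain ⟨r1, r2, hr1, hr2, hr12, hr1π, hr2π, hr1n, hr2n⟩ := htwo
  have h1a := hPa r1 hr1 hr1π hr1n
  have h2a := hPa r2 hr2 hr2π hr2n
  have ha3 : 3 ≤ a := by
    have := hr1.two_le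
    have := hr2.two_le
    omega
  set I := (M₀.subgroupOf (fiberPerm f)).map (fiberRes f q0) with hI
  have hNI : NearHall π I := nearHall_of_isPiHall (isPiHall_fiberImage q0 inf_le_right
    (fun p hp hd => hM.1 p hp (hd.trans (Subgroup.card_dvd_of_le inf_le_left)))
    (fun p hp hpπ => (hv p hp hpπ).2)
    (exists_odd_of_two hxy1 (swap_mem_fiberFix (hx1.trans hy1.symm) (hx1 ▸ hq1))))
  by_cases hall : ∀ p : ℕ, p.Prime → p ≤ a → p ∈ π
  · have h2r := huniq 2 Nat.prime_two (hall 2 Nat.prime_two (by omega)) hb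
    have hb2 : b = 2 := by
      by_contra hb2
      have h3r := huniq 3 Nat.prime_three (hall 3 Nat.prime_three ha3) (by omega)
      omega
    have hC : ∀ p : ℕ, p.Prime → p ≤ a → ¬ p ∣ (a + (a - 1)).choose (a - 1) := fun p hp hpa h => by
      refine (hv p hp (hall p hp hpa)).1 ?_
      rw [hb2, uniformBell_two, show a + a - 1 = a + (a - 1) by omega]
      exact h
    obtain ⟨rfl, -⟩ := choose_coprime_small (by omega) (by omega) hC
    have hX : ∀ p : ℕ, p ∣ 35 → p.Prime → p ∉ π := fun p hd hp hpπ => (hv p hp hpπ).1 (by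
      rw [hb2, uniformBell_two]
      exact hd.trans (by decide))
    refine Or.inr (Or.inr ⟨by omega, ⟨hall 2 Nat.prime_two (by norm_num),
      hall 3 Nat.prime_three (by norm_num), hX 5 (by norm_num) (by norm_num),
      hX 7 (by norm_num) (by norm_num)⟩, Finset.univ.filter fun x => f x = q0,
      by rw [← Fintype.card_subtype, hfib], fun g hg => ?_⟩)
    have hQ : ∀ p q : Q, ((p = q0) ↔ (q = q0)) ↔ p = q := by
      intro p q
      refine ⟨fun h => ?_, fun h => by rw [h]⟩
      by_contra hpq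
      by_cases hp : p = q0
      · exact hpq (hp.trans (h.1 hp).symm)
      · have hq : q ≠ q0 := fun e => hp (h.2 e)
        have := Fintype.two_lt_card_iff.2 ⟨p, q, q0, hpq, hp, hq⟩
        omega
    intro x y
    simp only [Finset.mem_filter, Finset.mem_univ, true_and, hQ]
    have e1 := heq ⟨g, hg⟩ x
    have e2 := heq ⟨g, hg⟩ y
    simp only at e1 e2
    rw [e1, e2]
    exact (ρ ⟨g, hg⟩).injective.eq_iff
  · exfalso
    push_neg at hall
    obtain ⟨r0, hr0, hr0a, hr0π⟩ := hall
    have hI' := ih {x // f x = q0} (by rw [hfib, hn]; nlinarith) I hNI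
      ⟨r1, r2, hr1, hr2, hr12, hr1π, hr2π, by rw [hfib]; exact h1a, by rw [hfib]; exact h2a⟩
      ⟨r0, hr0, by rw [hfib]; exact hr0a, hr0π⟩
    rw [hfib] at hI'
    rcases hI' with ⟨hap, hP⟩ | ⟨h78, -, h3, h5, h7⟩
    · have e : r = a := (Nat.prime_dvd_prime_iff_eq hrP hap).1 (hk ▸ dvd_pow_self r hk0)
      have := (hP r hrP hra).1 hrπ
      omega
    · rcases h78 with rfl | rfl
      · have e : r = 7 := (Nat.prime_dvd_prime_iff_eq hrP (by norm_num)).1 (hk ▸ dvd_pow_self r hk0)
        exact h7 (e ▸ hrπ)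
      · have e : r = 2 := (Nat.prime_dvd_prime_iff_eq hrP Nat.prime_two).1
          (hrP.dvd_of_dvd_pow (show r ∣ 2 ^ 3 by
            rw [show (2 : ℕ) ^ 3 = r ^ k from hk]; exact dvd_pow_self r hk0))
        have hb2 : b = 2 := by
          by_contra hb2
          have := huniq 3 Nat.prime_three h3 (by omega)
          omega
        exact (hv 3 Nat.prime_three h3).1 (by rw [hb2, uniformBell_two]; decide)

theorem exc_of_nearHall {π : Set ℕ} (n : ℕ) : ∀ (β : Type u) [Fintype β] [DecidableEq β],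
    Fintype.card β ≤ n → ∀ M : Subgroup (Perm β), NearHall π M →
    (∃ r s : ℕ, r.Prime ∧ s.Prime ∧ r ≠ s ∧ r ∈ π ∧ s ∈ π ∧ r ≤ Fintype.card β ∧
      s ≤ Fintype.card β) →
    (∃ r : ℕ, r.Prime ∧ r ≤ Fintype.card β ∧ r ∉ π) → Exc π M := by
  induction n with
  | zero =>
    intro β _ _ h M _ ⟨r, s, hr, _, _, _, _, hrn, _⟩ _
    have := hr.two_le
    omega
  | succ n ih =>
    intro β _ _ hcard M hM htwo hmiss
    classical
    have ih' : ∀ (γ : Type u) [Fintype γ] [DecidableEq γ], Fintype.card γ < Fintype.card β →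
        ∀ N : Subgroup (Perm γ), NearHall π N →
        (∃ r s : ℕ, r.Prime ∧ s.Prime ∧ r ≠ s ∧ r ∈ π ∧ s ∈ π ∧ r ≤ Fintype.card γ ∧
          s ≤ Fintype.card γ) →
        (∃ r : ℕ, r.Prime ∧ r ≤ Fintype.card γ ∧ r ∉ π) → ExcPi π (Fintype.card γ) :=
      fun γ _ _ h N hN h1 h2 => (ih γ (by omega) N hN h1 h2).excPi
    have hne : Nonempty β := by
      obtain ⟨r, hr, hrn, -⟩ := hmiss
      have := hr.two_le
      exact Fintype.card_pos_iff.1 (by omega)
    by_cases htr : IsPretransitive M β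
    · by_cases hprim : IsPreprimitive M β
      · exact (not_isPreprimitive hM hprim htwo hmiss).elim
      obtain ⟨B, hB, hBt⟩ : ∃ B : Set β, IsBlock M B ∧ ¬ IsTrivialBlock B := by
        by_contra h
        push_neg at h
        exact hprim ⟨fun {B} hB => h B hB⟩
      rw [IsTrivialBlock, not_or, Set.not_subsingleton_iff] at hBt
      obtain ⟨⟨y0, hy0, y1, hy1, hy01⟩, hBu⟩ := hBt
      obtain ⟨x⟩ := hne
      have hnM : Fintype.card β ∣ Nat.card M := by
        rw [← Nat.card_eq_fintype_card, ← index_stabilizer_of_transitive M x]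
        exact Subgroup.index_dvd_card _
      have hcov : ∀ x : β, ∃ q : orbit M B, x ∈ (q : Set β) := fun x => by
        obtain ⟨g, rfl⟩ := exists_smul_eq M y0 x
        exact ⟨⟨g • B, mem_orbit B g⟩, Set.smul_mem_smul_set hy0⟩
      have huni : ∀ (x : β) (q q' : orbit M B), x ∈ (q : Set β) → x ∈ (q' : Set β) → q = q' := by
        rintro x ⟨_, g, rfl⟩ ⟨_, g', rfl⟩ h h'
        refine Subtype.ext ?_
        exact isBlock_iff_smul_eq_smul_of_nonempty.1 hB ⟨x, h, h'⟩
      choose f hf using hcov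
      have hmem : ∀ (x : β) (q : orbit M B), f x = q ↔ x ∈ (q : Set β) :=
        fun x q => ⟨fun h => h ▸ hf x, fun h => huni x _ _ (hf x) h⟩
      have hfin : Fintype (orbit M B) := Fintype.ofFinite _
      refine exc_of_blocks ih' hM htwo hnM (MulAction.toPermHom M (orbit M B)) f (a := B.ncard)
        (fun q => ?_) (fun g x => ?_) ?_ ?_
      · rw [← Nat.card_eq_fintype_card, Nat.card_congr (Equiv.subtypeEquivRight fun x => hmem x q)]
        obtain ⟨_, g, rfl⟩ := q
        rw [← Set.ncard_smul_set g B, ← Nat.card_coe_set_eq]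
      · rw [hmem]
        exact Set.smul_mem_smul_set (hf x)
      · exact (Set.one_lt_ncard).2 ⟨y0, hy0, y1, hy1, hy01⟩
      · by_contra hlt
        refine hBu (Set.eq_univ_of_forall fun x => ?_)
        have : Subsingleton (orbit M B) := Fintype.card_le_one_iff_subsingleton.1 (by omega)
        have h := hf x
        rwa [Subsingleton.elim (f x) ⟨B, mem_orbit_self B⟩] at h
    · rw [isPretransitive_iff] at htr
      push_neg at htr
      obtain ⟨x, y, hxy⟩ := htr
      set O := Finset.univ.filter fun z => z ∈ orbit M x with hO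
      have hMO : M ≤ fiberPerm (ind O) := fun g hg z => by
        simp only [ind, hO, Finset.mem_filter, Finset.mem_univ, true_and, decide_eq_decide]
        rw [← orbit_eq_iff, ← orbit_eq_iff, show g z = (⟨g, hg⟩ : M) • z from rfl,
          orbit_smul]
      have hO1 : 1 ≤ O.card := Finset.card_pos.2 ⟨x, by simp [hO]⟩
      have hO2 : O.card < Fintype.card β := Finset.card_lt_univ_of_notMem (x := y) (by
        simp only [hO, Finset.mem_filter, Finset.mem_univ, true_and]
        rintro ⟨g, hg⟩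
        exact hxy g hg)
      by_cases h2 : 2 * O.card ≤ Fintype.card β
      · exact exc_of_invariant ih' hM htwo hO1 h2 hMO
      · refine exc_of_invariant ih' hM htwo (s := Oᶜ) ?_ ?_ fun g hg z => ?_
        · rw [Finset.card_compl]; omega
        · rw [Finset.card_compl]; omega
        · have := hMO hg z
          simp only [ind, decide_eq_decide, Finset.mem_compl] at this ⊢
          rw [this]

end Cfsg.Lib.HallSym
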