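import Cfsg.Agent.Lib.Perm.HallSym.Std
import Mathlib.GroupTheory.Perm.Centralizer
import Mathlib.GroupTheory.Perm.Fin

/-!
# `π`-subgroups of alternating groups outside every Hall subgroup

Exceptional Hall subgroups do not dominate: the set stabiliser of three points (`n` prime), or an
`A₄` transitive on six points (`n = 7, 8`), lies in none of them.
-/

set_option autoImplicit false

namespace Cfsg.Lib.HallSym

open Equiv Equiv.Perm

theorem witness_prime {n : ℕ} (hn5 : 5 ≤ n) (hn : n.Prime) {π : Set ℕ}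
    (hP : ∀ r : ℕ, r.Prime → r ≤ n → (r ∈ π ↔ r < n)) :
    ∃ K : Subgroup (Perm (Fin n)), K ≤ alternatingGroup (Fin n) ∧ IsPiSubgroup π K ∧
      ∀ x : Fin n, ¬ K ≤ fiberPerm (ind {x}) := by
  obtain ⟨s, -, hs⟩ :=
    Finset.exists_subset_card_eq (s := (Finset.univ : Finset (Fin n))) (n := 3) (by simp; omega)
  refine ⟨fiberPerm (ind s) ⊓ alternatingGroup (Fin n), inf_le_right, fun p hp hd => ?_,
    fun x hle => ?_⟩
  · have h := hd.trans (Subgroup.card_dvd_of_le inf_le_left)
    rw [card_fiberPerm_ind, hs, Fintype.card_fin] at h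
    rcases hp.dvd_mul.1 h with h | h
    · have := hp.dvd_factorial.1 h; exact (hP p hp (by omega)).2 (by omega)
    · have := hp.dvd_factorial.1 h; exact (hP p hp (by omega)).2 (by omega)
  · have hsc : 1 < sᶜ.card := by rw [Finset.card_compl, hs, Fintype.card_fin]; omega
    have hkey : ∀ t u : Finset (Fin n), x ∈ t → 1 < t.card → 1 < u.card → Disjoint t u →
        (∀ a ∈ t, ∀ b ∈ t, ind s a = ind s b) → (∀ a ∈ u, ∀ b ∈ u, ind s a = ind s b) → False := by
      intro t u hx ht hu htu hft hfu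
      obtain ⟨y, hy, hyx⟩ := Finset.exists_mem_ne ht x
      obtain ⟨a, ha, b, hb, hab⟩ := Finset.one_lt_card.1 hu
      have hne : ∀ z ∈ u, x ≠ z := fun z hz e => Finset.disjoint_left.1 htu hx (e ▸ hz)
      have hmem : swap x y * swap a b ∈ fiberPerm (ind s) ⊓ alternatingGroup (Fin n) :=
        ⟨Subgroup.mul_mem _ (swap_mem_fiberPerm (hft x hx y hy))
          (swap_mem_fiberPerm (hfu a ha b hb)), by
          show _ ∈ alternatingGroup (Fin n)
          rw [mem_alternatingGroup, Perm.sign_mul, sign_swap hyx.symm,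
            sign_swap hab]
          rfl⟩
      have h := hle hmem x
      simp [ind, Perm.mul_apply, swap_apply_of_ne_of_ne (hne a ha) (hne b hb), hyx] at h
    have hs' : ∀ a ∈ s, ∀ b ∈ s, ind s a = ind s b := fun a ha b hb => by simp [ind, ha, hb]
    have hc' : ∀ a ∈ sᶜ, ∀ b ∈ sᶜ, ind s a = ind s b := fun a ha b hb => by
      rw [Finset.mem_compl] at ha hb
      simp [ind, ha, hb]
    by_cases hx : x ∈ s
    · exact hkey s sᶜ hx (by omega) hsc disjoint_compl_right hs' hc'
    · exact hkey sᶜ s (by simpa using hx) hsc (by omega) disjoint_compl_left hc' hs'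

theorem card_centralizer_triple {α : Type*} [Fintype α] [DecidableEq α] (a b c d e f : α)
    (h : [a, b, c, d, e, f].Nodup) :
    Nat.card (Subgroup.centralizer ({swap a b * swap c d * swap e f} : Set (Perm α))) =
      (Fintype.card α - 6).factorial * 8 * 6 := by
  simp only [List.nodup_cons, List.mem_cons, List.not_mem_nil, or_false, not_or] at h
  obtain ⟨⟨hab, hac, had, hae, haf⟩, ⟨hbc, hbd, hbe, hbf⟩, ⟨hcd, hce, hcf⟩, ⟨hde, hdf⟩, hef, -⟩ := h
  have hsw : ∀ {x y : α}, x ≠ y → (swap x y).cycleType = {2} := fun hxy =>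
    isSwap_iff_cycleType.1 ⟨_, _, hxy, rfl⟩
  have d1 : Perm.Disjoint (swap a b) (swap c d) := by
    rw [disjoint_iff_disjoint_support, support_swap hab, support_swap hcd]
    simp [Ne.symm hac, Ne.symm had, Ne.symm hbc, Ne.symm hbd]
  have d2 : Perm.Disjoint (swap a b * swap c d) (swap e f) := by
    rw [disjoint_iff_disjoint_support, d1.support_mul, support_swap hab, support_swap hcd,
      support_swap hef]
    simp [Ne.symm hae, Ne.symm haf, Ne.symm hbe, Ne.symm hbf, Ne.symm hce, Ne.symm hcf,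
      Ne.symm hde, Ne.symm hdf]
  have ct : (swap a b * swap c d * swap e f).cycleType = {2, 2, 2} := by
    rw [d2.cycleType_mul, d1.cycleType_mul, hsw hab, hsw hcd, hsw hef]
    rfl
  rw [nat_card_centralizer, ct]
  rfl

theorem witness_seven {π : Set ℕ} (h : TwoThree π) :
    ∃ K : Subgroup (Perm (Fin 7)), K ≤ alternatingGroup (Fin 7) ∧ IsPiSubgroup π K ∧
      ∀ s : Finset (Fin 7), s.card = 3 → ¬ K ≤ fiberPerm (ind s) := by
  obtain ⟨h2, h3, -, -⟩ := h
  set g : Perm (Fin 7) := swap 0 2 * swap 2 4 * (swap 1 3 * swap 3 5) with hg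
  set k : Perm (Fin 7) := swap 0 1 * swap 2 3 with hk
  set t : Perm (Fin 7) := swap 0 1 * swap 2 3 * swap 4 5 with ht
  refine ⟨Subgroup.closure {g, k}, ?_, fun p hp hd => ?_, fun s hs hle => ?_⟩
  · rw [Subgroup.closure_le]
    rintro _ (rfl | rfl) <;> rw [SetLike.mem_coe, mem_alternatingGroup]
    · simp [hg]
    · simp [hk]
  · have hle : Subgroup.closure {g, k} ≤ Subgroup.centralizer ({t} : Set (Perm (Fin 7))) := by
      rw [Subgroup.closure_le]
      rintro _ (rfl | rfl) <;> rw [SetLike.mem_coe, Subgroup.mem_centralizer_singleton_iff] <;>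
        simp only [hg, hk, ht] <;> decide
    have h48 := hd.trans (Subgroup.card_dvd_of_le hle)
    rw [ht, card_centralizer_triple _ _ _ _ _ _ (by decide)] at h48
    rcases hp.dvd_mul.1 (show p ∣ 2 ^ 4 * 3 from h48) with h | h
    · rwa [(Nat.prime_dvd_prime_iff_eq hp Nat.prime_two).1 (hp.dvd_of_dvd_pow h)]
    · rwa [(Nat.prime_dvd_prime_iff_eq hp Nat.prime_three).1 h]
  · have hsc : ∀ s : Finset (Fin 7), s.card = 3 →
        ¬ ((∀ x, (g x ∈ s) ↔ x ∈ s) ∧ ∀ x, (k x ∈ s) ↔ x ∈ s) := by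
      rw [hg, hk]; decide +kernel
    refine hsc s hs ⟨fun x => ?_, fun x => ?_⟩
    · simpa [ind] using hle (Subgroup.subset_closure (Set.mem_insert g _)) x
    · simpa [ind] using hle (Subgroup.subset_closure (Set.mem_insert_of_mem g (Set.mem_singleton k))) x

theorem witness_eight {π : Set ℕ} (h : TwoThree π) :
    ∃ K : Subgroup (Perm (Fin 8)), K ≤ alternatingGroup (Fin 8) ∧ IsPiSubgroup π K ∧
      ∀ s : Finset (Fin 8), s.card = 4 → ¬ K ≤ pairPerm s := by
  obtain ⟨h2, h3, -, -⟩ := h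
  set g : Perm (Fin 8) := swap 0 2 * swap 2 4 * (swap 1 3 * swap 3 5) with hg
  set k : Perm (Fin 8) := swap 0 1 * swap 2 3 with hk
  set t : Perm (Fin 8) := swap 0 1 * swap 2 3 * swap 4 5 with ht
  refine ⟨Subgroup.closure {g, k}, ?_, fun p hp hd => ?_, fun s hs hle => ?_⟩
  · rw [Subgroup.closure_le]
    rintro _ (rfl | rfl) <;> rw [SetLike.mem_coe, mem_alternatingGroup]
    · simp [hg]
    · simp [hk]
  · have hle : Subgroup.closure {g, k} ≤ Subgroup.centralizer ({t} : Set (Perm (Fin 8))) := by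
      rw [Subgroup.closure_le]
      rintro _ (rfl | rfl) <;> rw [SetLike.mem_coe, Subgroup.mem_centralizer_singleton_iff] <;>
        simp only [hg, hk, ht] <;> decide
    have h96 := hd.trans (Subgroup.card_dvd_of_le hle)
    rw [ht, card_centralizer_triple _ _ _ _ _ _ (by decide)] at h96
    rcases hp.dvd_mul.1 (show p ∣ 2 ^ 5 * 3 from h96) with h | h
    · rwa [(Nat.prime_dvd_prime_iff_eq hp Nat.prime_two).1 (hp.dvd_of_dvd_pow h)]
    · rwa [(Nat.prime_dvd_prime_iff_eq hp Nat.prime_three).1 h]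
  · have hsc : ∀ s : Finset (Fin 8), s.card = 4 →
        ¬ (((∀ x, (g x ∈ s) ↔ x ∈ s) ∨ ∀ x, (g x ∈ s) ↔ x ∉ s) ∧
          ((∀ x, (k x ∈ s) ↔ x ∈ s) ∨ ∀ x, (k x ∈ s) ↔ x ∉ s)) := by
      rw [hg, hk]; decide +kernel
    exact hsc s hs ⟨(mem_pairPerm_iff (Finset.card_pos.1 (by omega))).1
        (hle (Subgroup.subset_closure (Set.mem_insert g _))),
      (mem_pairPerm_iff (Finset.card_pos.1 (by omega))).1
        (hle (Subgroup.subset_closure (Set.mem_insert_of_mem g (Set.mem_singleton k))))⟩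

theorem dvd_card_alternating {α : Type*} [Fintype α] [DecidableEq α] (hn : 4 ≤ Fintype.card α)
    {r : ℕ} (hr : r.Prime) (hrn : r ≤ Fintype.card α) :
    r ∣ Nat.card (alternatingGroup α) := by
  have : Nontrivial α := Fintype.one_lt_card_iff_nontrivial.1 (by omega)
  have e : (Fintype.card α).factorial = 2 * Fintype.card (alternatingGroup α) := by
    rw [two_mul_card_alternatingGroup, Fintype.card_perm]
  rw [Nat.card_eq_fintype_card]
  rcases eq_or_ne r 2 with rfl | hr2
  · have h4 : 4 ∣ 2 * Fintype.card (alternatingGroup α) :=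
      e ▸ (show 4 ∣ Nat.factorial 4 by decide).trans (Nat.factorial_dvd_factorial hn)
    omega
  · have hd : r ∣ 2 * Fintype.card (alternatingGroup α) := e ▸ Nat.dvd_factorial hr.pos hrn
    exact (hr.dvd_mul.1 hd).resolve_left
      fun h => hr2 ((Nat.prime_dvd_prime_iff_eq hr Nat.prime_two).1 h)

/-- `A_n`, `n ≥ 5`, is a `D_π`-group only in the trivial cases. -/
theorem easy_of_isDPiGroup {n : ℕ} (hn : 5 ≤ n) {π : Set ℕ}
    (h : IsDPiGroup π (alternatingGroup (Fin n))) : Easy π n := by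
  by_contra he
  have he' : ¬ Easy π (Fintype.card (Fin n)) := by rwa [Fintype.card_fin]
  obtain ⟨H, hH⟩ := isEPiGroup_of_isDPiGroup h
  obtain ⟨St, hSt, rfl⟩ := exists_std_of_alternating he' hH
  have hdom : ∀ K : Subgroup (Perm (Fin n)), K ≤ alternatingGroup (Fin n) → IsPiSubgroup π K →
      ∃ S, IsStd π S ∧ K ≤ S := by
    intro K hKA hK
    obtain ⟨g, hg⟩ := exists_le_conj_of_isDPiGroup h hH (K := K.subgroupOf (alternatingGroup (Fin n)))
      fun p hp hd => hK p hp (by
        rwa [Nat.card_congr (Subgroup.subgroupOfEquivOfLe hKA).toEquiv] at hd)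
    refine ⟨_, hSt.conj (g : Perm (Fin n)), fun x hx => ?_⟩
    have := hg (show (⟨x, hKA hx⟩ : alternatingGroup (Fin n)) ∈ K.subgroupOf _ from hx)
    rw [mem_conj_iff, Subgroup.mem_subgroupOf] at this
    rw [mem_conj_iff]
    exact this
  rcases hSt with ⟨hp, hP, x, -⟩ | ⟨h7, hT, -⟩ | ⟨h8, hT, -⟩
  · simp only [Fintype.card_fin] at hp hP
    obtain ⟨K, hKA, hK, hKx⟩ := witness_prime hn hp hP
    obtain ⟨S, hS, hKS⟩ := hdom K hKA hK
    rcases hS with ⟨-, -, y, rfl⟩ | ⟨h7, hT, -⟩ | ⟨h8, -⟩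
    · exact hKx y hKS
    · rw [Fintype.card_fin] at h7
      exact hT.2.2.1 ((hP 5 (by norm_num) (by omega)).2 (by omega))
    · rw [Fintype.card_fin] at h8
      exact absurd (h8 ▸ hp) (by decide)
  · rw [Fintype.card_fin] at h7
    subst h7
    obtain ⟨K, hKA, hK, hKs⟩ := witness_seven hT
    obtain ⟨S, hS, hKS⟩ := hdom K hKA hK
    rcases hS with ⟨-, hP, -⟩ | ⟨-, -, s, hs, rfl⟩ | ⟨h8, -⟩
    · simp only [Fintype.card_fin] at hP
      exact hT.2.2.1 ((hP 5 (by norm_num) (by omega)).2 (by omega))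
    · exact hKs s hs hKS
    · simp at h8
  · rw [Fintype.card_fin] at h8
    subst h8
    obtain ⟨K, hKA, hK, hKs⟩ := witness_eight hT
    obtain ⟨S, hS, hKS⟩ := hdom K hKA hK
    rcases hS with ⟨hp, -⟩ | ⟨h7, -⟩ | ⟨-, -, s, hs, rfl⟩
    · simp at hp; exact absurd hp (by decide)
    · simp at h7
    · exact hKs s hs hKS

end Cfsg.Lib.HallSym
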